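import Groth.Agent.AbVar.K512.Phi
import Groth.Agent.AbVar.K524.PicZeroVan
import Groth.Agent.Sga7.H270.FinStab

/-!
# Surjectivity of `φ_L`, without hypotheses

`A` an abelian variety over an algebraically closed field.
* `exists_eq`: `c` nondegenerate, `m` translation invariant ⇒ `t_x^* c = c m` for some rational `x`;
* `finite_of_isAmple`: ample classes are nondegenerate;
* `exists_eq_of_isAmple`.
-/

set_option autoImplicit false
universe u

open CategoryTheory CategoryTheory.Limits MonoidalCategory CartesianMonoidalCategory AlgebraicGeometry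
open scoped MonObj
open Groth.Agent Groth.Agent.Grpsch.PicGrp Groth.Agent.Grpsch.Cube K512.Slice K512.Phi

namespace K512.PhiSurj

variable {k : Type u} [Field k] [IsAlgClosed k] {A : Over (Spec (CommRingCat.of k))} [GrpObj A]
  [IsProper A.hom] [GeometricallyIntegral A.hom]

/-- Nontrivial translation invariant classes have no cohomology. -/
theorem van : Van A := van_of_mul fun c h1 h2 => by
  obtain ⟨L, hL, rfl⟩ := exists_mk c
  rw [acycCls_mk]
  exact fun n => (K524.Kun.van_mk hL n).1 (K524.PicZeroVan.van (c := mk L hL) h1 h2 n)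

/-- `φ_c` is surjective onto `Pic⁰` for `c` nondegenerate. -/
theorem exists_eq (c m : Pic A.left)
    (hc : Set.Finite {x : 𝟙_ (Over (Spec (CommRingCat.of k))) ⟶ A | pl (tr x) c = c})
    (hm : ∀ x, pl (tr x) m = m) : ∃ x, pl (tr x) c = c * m :=
  Phi.exists_eq van c m hc hm

omit [IsAlgClosed k] in
/-- Ample classes are nondegenerate. -/
theorem finite_of_isAmple (L : A.left.Modules) (hL : CohB1.IsAmple L) :
    Set.Finite {x : 𝟙_ (Over (Spec (CommRingCat.of k))) ⟶ A | pl (tr x) (mk L hL.1) = mk L hL.1} := by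
  have hcomm : IsCommMonObj A := isCommMonObj_of_isProper_of_geometricallyIntegral A
  convert Groth.Agent.Sga7.H270.FinStab.finite_stab k A L hL using 2
  ext x
  have e : tr x = Groth.Agent.Sga7.H730.Tr.tr x := mul_comm (𝟙 A) (toUnit A ≫ x)
  rw [e, pull_mk, mk_eq_iff]

/-- Every translation invariant class is `t_x^* L ⊗ L⁻¹`, `L` ample. -/
theorem exists_eq_of_isAmple (L : A.left.Modules) (hL : CohB1.IsAmple L) (m : Pic A.left)
    (hm : ∀ x, pl (tr x) m = m) : ∃ x, pl (tr x) (mk L hL.1) * (mk L hL.1)⁻¹ = m := by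
  obtain ⟨x, hx⟩ := exists_eq _ m (finite_of_isAmple L hL) hm
  exact ⟨x, by rw [hx, mul_comm, inv_mul_cancel_left]⟩

end K512.PhiSurj
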