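import Mathlib.AlgebraicGeometry.AlgClosed.Basic
import Mathlib.AlgebraicGeometry.PullbackCarrier
import Mathlib.AlgebraicGeometry.Morphisms.FiniteType
import Mathlib.CategoryTheory.Monoidal.Cartesian.Over
import Mathlib.CategoryTheory.Monoidal.Cartesian.Grp
import Mathlib.AlgebraicGeometry.Group.Abelian

/-!
# Rational points of schemes over an algebraically closed field, in the category `Over (Spec k)`
-/

set_option autoImplicit false
universe u

open CategoryTheory CategoryTheory.Limits MonoidalCategory CartesianMonoidalCategory MonObj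
  AlgebraicGeometry

namespace K512.Pts

variable {k : Type u} [Field k] [IsAlgClosed k]

theorem w_unit {A : Over (Spec (CommRingCat.of k))}
    (x : 𝟙_ (Over (Spec (CommRingCat.of k))) ⟶ A) : x.left ≫ A.hom = 𝟙 _ := Over.w x

theorem ext_pt {A : Over (Spec (CommRingCat.of k))} [LocallyOfFiniteType A.hom]
    {x y : 𝟙_ (Over (Spec (CommRingCat.of k))) ⟶ A}
    (h : x.left (IsLocalRing.closedPoint k) = y.left (IsLocalRing.closedPoint k)) : x = y := by
  apply Over.OverMorphism.ext
  exact ext_of_apply_closedPoint_eq A.hom (w_unit x) (w_unit y) h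

theorem exists_section {V : Scheme.{u}} (q : V ⟶ Spec (CommRingCat.of k)) [LocallyOfFiniteType q]
    [Nonempty V] : ∃ s : Spec (CommRingCat.of k) ⟶ V, s ≫ q = 𝟙 _ := by
  have : JacobsonSpace V := LocallyOfFiniteType.jacobsonSpace q
  have h := JacobsonSpace.closure_inter_closedPoints_eq_closure
    (isClosed_univ (X := V)).isLocallyClosed
  rw [Set.univ_inter, closure_univ] at h
  have h1 : (closedPoints V).Nonempty := by
    rw [← closure_nonempty_iff, h]
    exact Set.univ_nonempty
  obtain ⟨z, hz⟩ := h1
  exact ⟨pointOfClosedPoint q z hz, pointOfClosedPoint_comp q z hz⟩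

/-- Every closed point is the image of a rational point. -/
theorem exists_pt {A : Over (Spec (CommRingCat.of k))} [LocallyOfFiniteType A.hom] (z : A.left)
    (hz : IsClosed {z}) :
    ∃ x : 𝟙_ (Over (Spec (CommRingCat.of k))) ⟶ A, x.left (IsLocalRing.closedPoint k) = z :=
  ⟨Over.homMk (pointOfClosedPoint A.hom z hz) (pointOfClosedPoint_comp A.hom z hz),
    pointOfClosedPoint_apply _ _ _ _⟩

theorem isClosed_pt {A : Over (Spec (CommRingCat.of k))} [LocallyOfFiniteType A.hom]
    (x : 𝟙_ (Over (Spec (CommRingCat.of k))) ⟶ A) :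
    IsClosed {x.left (IsLocalRing.closedPoint k)} :=
  (pointEquivClosedPoint A.hom ⟨x.left, w_unit x⟩).2

/-- Rational points lift along surjective morphisms. -/
theorem exists_lift {A B : Over (Spec (CommRingCat.of k))} [LocallyOfFiniteType B.hom]
    [LocallyOfFiniteType A.hom] (f : B ⟶ A) [Surjective f.left]
    (x : 𝟙_ (Over (Spec (CommRingCat.of k))) ⟶ A) :
    ∃ y : 𝟙_ (Over (Spec (CommRingCat.of k))) ⟶ B, y ≫ f = x := by
  have h0 : LocallyOfFiniteType (f.left ≫ A.hom) := by
    rw [Over.w f]; infer_instance
  have h1 : LocallyOfFiniteType f.left := locallyOfFiniteType_of_comp f.left A.hom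
  have h2 : Nonempty ↥(pullback f.left x.left) := by
    obtain ⟨z, hz⟩ := (inferInstance : Surjective f.left).surj (x.left (IsLocalRing.closedPoint k))
    obtain ⟨w, -⟩ := Scheme.Pullback.exists_preimage_pullback (f := f.left) (g := x.left) z
      (IsLocalRing.closedPoint k) hz
    exact ⟨w⟩
  obtain ⟨s, hs⟩ := exists_section (pullback.snd f.left x.left)
  have h3 : (s ≫ pullback.fst f.left x.left) ≫ f.left = x.left := by
    rw [Category.assoc, pullback.condition, ← Category.assoc, hs]
    exact Category.id_comp _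
  have h4 : (s ≫ pullback.fst f.left x.left) ≫ B.hom =
      (𝟙_ (Over (Spec (CommRingCat.of k)))).hom := by
    rw [← Over.w f, ← Category.assoc, h3]
    exact w_unit x
  refine ⟨Over.homMk (s ≫ pullback.fst f.left x.left) h4, ?_⟩
  apply Over.OverMorphism.ext
  exact h3

end K512.Pts
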