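import Groth.Agent.AbSch.K449.Basic
import Groth.Agent.Flat2B.SmoothGeom

/-!
# Smooth group schemes with geometrically connected fibres are geometrically integral
-/

set_option autoImplicit false
universe u

open CategoryTheory MonoidalCategory CartesianMonoidalCategory MonObj AlgebraicGeometry

namespace K512.AV

theorem geometricallyIntegral {S : Scheme.{u}} (X : Over S) [GrpObj X] [Smooth X.hom]
    [GeometricallyConnected X.hom] : GeometricallyIntegral X.hom := by
  have : GeometricallyReduced X.hom :=
    Groth.Agent.Flat2B.SmoothGeom.geometricallyReduced_of_smooth X.hom
  exact K449.Basic.geometricallyIntegral X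

end K512.AV
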