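import Groth.Agent.AbVar.K512.Slice
import Groth.Agent.AbVar.K512.AV
import Groth.Agent.Sga7.H496.SeeSaw

/-!
# `φ_L : A(k) → Pic⁰(A)` is surjective for a nondegenerate class

Everything for an abelian variety `A` over an algebraically closed field `k`, in the language of the
Picard group `Grpsch.PicGrp.Pic`. The vanishing of the cohomology of the non-trivial translation-invariant
classes (S7804) is taken as a hypothesis `Van A`.
-/

set_option autoImplicit false
universe u

open CategoryTheory CategoryTheory.Limits MonoidalCategory CartesianMonoidalCategory AlgebraicGeometry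
open scoped MonObj
open Groth.Agent Groth.Agent.Grpsch.PicGrp Groth.Agent.Grpsch.Cube Groth.Agent.Sga7.H260.Square K512.Slice

namespace K512.Phi

section Cat

variable {C : Type*} [Category C] [CartesianMonoidalCategory C] {A : C} [GrpObj A]

/-- Right translation. -/
abbrev tr (x : 𝟙_ C ⟶ A) : A ⟶ A := 𝟙 A * (toUnit A ≫ x)

theorem comp_tr {T : C} (a : T ⟶ A) (x : 𝟙_ C ⟶ A) : a ≫ tr x = a * (toUnit T ≫ x) := by
  rw [MonObj.comp_mul, Category.comp_id, ← Category.assoc, toUnit_unique (a ≫ toUnit A) (toUnit T)]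

theorem tr_comp_tr (x y : 𝟙_ C ⟶ A) : tr x ≫ tr y = tr (x * y) := by
  rw [comp_tr, tr, tr, MonObj.comp_mul, mul_assoc]

theorem tr_one : tr (1 : 𝟙_ C ⟶ A) = 𝟙 A := by
  rw [tr, MonObj.comp_one, mul_one]

end Cat

variable {k : Type u} [Field k] {A : Over (Spec (CommRingCat.of k))} [GrpObj A]

omit [GrpObj A] in
theorem pl_id (c : Pic A.left) : pl (𝟙 A) c = c := by
  unfold pl
  rw [Over.id_left, pull_id]

theorem pl_tr_one (c : Pic A.left) : pl (tr (1 : 𝟙_ _ ⟶ A)) c = c := by
  rw [tr_one, pl_id]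

theorem pl_tr_mul (x y : 𝟙_ (Over (Spec (CommRingCat.of k))) ⟶ A) (c : Pic A.left) :
    pl (tr (x * y)) c = pl (tr x) (pl (tr y) c) := by
  rw [← tr_comp_tr, pl_comp]

section Square

variable [IsProper A.hom] [GeometricallyIntegral A.hom]

/-- The theorem of the square. -/
theorem square (c : Pic A.left) (x y : 𝟙_ (Over (Spec (CommRingCat.of k))) ⟶ A) :
    pl (tr (x * y)) c * c = pl (tr x) c * pl (tr y) c := by
  have h := cube c (𝟙 A) (toUnit A ≫ x) (toUnit A ≫ y)
  have h1 : (toUnit A ≫ x) * (toUnit A ≫ y) = toUnit A ≫ (x * y) := by rw [MonObj.comp_mul]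
  rw [mul_assoc (𝟙 A), h1, pl_const, pl_const, pl_const, mul_one, mul_one, mul_one, pl_id] at h
  exact h

/-- `φ_c(x)` is translation invariant. -/
theorem phi_invariant (c : Pic A.left) (x y : 𝟙_ (Over (Spec (CommRingCat.of k))) ⟶ A) :
    pl (tr y) (pl (tr x) c * c⁻¹) = pl (tr x) c * c⁻¹ := by
  have h := square c y x
  rw [pl_tr_mul] at h
  rw [map_mul, map_inv, eq_mul_inv_iff_mul_eq, mul_right_comm, mul_inv_eq_iff_eq_mul, h, mul_comm]

end Square

/-- The vanishing theorem S7804, for the translation invariant classes. -/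
def Van (A : Over (Spec (CommRingCat.of k))) [GrpObj A] : Prop :=
  ∀ c : Pic A.left, (∀ x, pl (tr x) c = c) → c ≠ 1 → AcycCls c

variable [IsAlgClosed k] [IsProper A.hom] [GeometricallyIntegral A.hom]

/-- Surjectivity of `φ_c` for nondegenerate `c`. -/
theorem exists_eq (hvan : Van A) (c m : Pic A.left)
    (hc : Set.Finite {x : 𝟙_ (Over (Spec (CommRingCat.of k))) ⟶ A | pl (tr x) c = c})
    (hm : ∀ x, pl (tr x) m = m) : ∃ x, pl (tr x) c = c * m := by
  have hcomm : IsCommMonObj A := isCommMonObj_of_isProper_of_geometricallyIntegral A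
  by_contra hcon
  push Not at hcon
  let N : Pic (A ⊗ A).left := pl (fst A A * snd A A) c * (pl (fst A A) c)⁻¹ * (pl (snd A A) (c * m))⁻¹
  have h1 : ∀ x, pl (j1 A x) N = pl (tr x) c * c⁻¹ * m⁻¹ := by
    intro x
    have e1 : j1 A x ≫ (fst A A * snd A A) = (toUnit A ≫ x) * 𝟙 A := by
      rw [MonObj.comp_mul, j1_fst, j1_snd]
    have e2 : (toUnit A ≫ x) * 𝟙 A = tr x := mul_comm (toUnit A ≫ x) (𝟙 A)
    simp only [N, map_mul, map_inv, ← pl_comp, e1, e2, j1_fst, j1_snd, pl_const, pl_id]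
    rw [inv_one, mul_one, mul_inv, mul_assoc]
  have h2 : ∀ y, pl (j2 A y) N = pl (tr y) c * c⁻¹ := by
    intro y
    have e1 : j2 A y ≫ (fst A A * snd A A) = tr y := by
      rw [MonObj.comp_mul, j2_fst, j2_snd]
    simp only [N, map_mul, map_inv, ← pl_comp, e1, j2_fst, j2_snd, pl_const, pl_id]
    group
  have h3 : AcycCls N := by
    refine acyc_of_j1 N fun x => ?_
    rw [h1]
    refine hvan _ (fun y => ?_) fun h => hcon x ?_
    · rw [map_mul, map_inv, phi_invariant, hm]
    · rw [← mul_inv_eq_one, ← h, mul_inv, mul_assoc]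
  have h4 := acyc_j2 N h3 _ hc (fun y hy => by
    rw [h2]
    refine hvan _ (fun z => phi_invariant c y z) fun h => hy ?_
    rwa [mul_inv_eq_one] at h) 1
  rw [h2, pl_tr_one, mul_inv_cancel] at h4
  have : Nonempty A.left := ⟨(η[A] : 𝟙_ _ ⟶ A).left (IsLocalRing.closedPoint k)⟩
  exact not_acycCls_one h4

omit [GrpObj A] [GeometricallyIntegral A.hom] in
/-- The rational points are dense. -/
theorem dense_pts : Dense {z : A.left | ∃ w ∈ (Set.univ : Set (𝟙_ (Over (Spec (CommRingCat.of k))) ⟶ A)),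
    z ∈ Set.range w.left} := by
  have : JacobsonSpace A.left := LocallyOfFiniteType.jacobsonSpace A.hom
  have h := JacobsonSpace.closure_inter_closedPoints_eq_closure
    (isClosed_univ (X := A.left)).isLocallyClosed
  rw [Set.univ_inter, closure_univ] at h
  refine Dense.mono ?_ (dense_iff_closure_eq.2 h)
  intro z hz
  obtain ⟨x, hx⟩ := Pts.exists_pt z hz
  exact ⟨x, trivial, IsLocalRing.closedPoint k, hx⟩

theorem mul_of_invariant (c : Pic A.left) (hc : ∀ x, pl (tr x) c = c) :
    pl μ[A] c = pl (fst A A) c * pl (snd A A) c := by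
  have hcomm : IsCommMonObj A := isCommMonObj_of_isProper_of_geometricallyIntegral A
  refine Sga7.H496.SeeSaw.pull_mul c Set.univ dense_pts fun w _ => ?_
  have e : (toUnit A ≫ w) * 𝟙 A = tr w := mul_comm (toUnit A ≫ w) (𝟙 A)
  rw [e]
  exact hc w

theorem van_of_mul (h : ∀ c : Pic A.left, pl μ[A] c = pl (fst A A) c * pl (snd A A) c → c ≠ 1 →
    AcycCls c) : Van A := fun c hc hne => h c (mul_of_invariant c hc) hne

theorem van_of_modules (h : ∀ (L : A.left.Modules), PicF.IsInvertible L →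
    Nonempty ((Scheme.Modules.pullback μ[A].left).obj L ≅
      CohB1.tensorMod ((Scheme.Modules.pullback (fst A A).left).obj L)
        ((Scheme.Modules.pullback (snd A A).left).obj L)) →
    ¬ Nonempty (L ≅ Coh.structureModule A.left) → ∀ i : ℕ, Subsingleton (Coh.HH A.left L i)) :
    Van A := by
  refine van_of_mul fun c h1 h2 => ?_
  obtain ⟨N, hN, rfl⟩ := exists_mk c
  rw [acycCls_mk]
  refine h N hN ?_ ?_
  · rw [pull_mk, pull_mk, pull_mk, mk_mul_mk, mk_eq_iff] at h1
    exact h1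
  · rwa [ne_eq, mk_eq_one_iff] at h2

/-- `φ_L` is surjective, for modules: translates of nondegenerate modules (S14143). -/
theorem exists_iso_translate (hvan : Van A) (L : A.left.Modules) (hL : PicF.IsInvertible L)
    (hnd : (Set.Finite {x : 𝟙_ (Over (Spec (CommRingCat.of k))) ⟶ A |
      Nonempty ((Scheme.Modules.pullback (𝟙 A * (toUnit A ≫ x)).left).obj L ≅ L)}))
    (M : A.left.Modules) (hM : PicF.IsInvertible M)
    (hM0 : ∀ x : 𝟙_ (Over (Spec (CommRingCat.of k))) ⟶ A,
      Nonempty ((Scheme.Modules.pullback (𝟙 A * (toUnit A ≫ x)).left).obj M ≅ M)) :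
    ∃ x : 𝟙_ (Over (Spec (CommRingCat.of k))) ⟶ A,
      Nonempty ((Scheme.Modules.pullback (𝟙 A * (toUnit A ≫ x)).left).obj L ≅ CohB1.tensorMod L M) := by
  obtain ⟨x, hx⟩ := exists_eq hvan (mk L hL) (mk M hM) (by
    convert hnd using 2
    ext x
    rw [pull_mk, mk_eq_iff]) (fun x => by
    rw [pull_mk, mk_eq_iff]
    exact hM0 x)
  refine ⟨x, ?_⟩
  rw [pull_mk, mk_mul_mk, mk_eq_iff] at hx
  exact hx

end K512.Phi
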