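import Groth.Agent.AbVar.K512.FinSupp
import Groth.Agent.Grpsch.Cube
import Groth.Agent.Sga7.H260.Square
import Groth.Agent.Grpsch.CubeClosed
import Groth.Agent.S2329

/-!
# Slices of a product over an algebraically closed field, and families of invertible modules
-/

set_option autoImplicit false
universe u

open CategoryTheory CategoryTheory.Limits MonoidalCategory CartesianMonoidalCategory AlgebraicGeometry
open scoped MonObj
open Groth.Agent Groth.Agent.Grpsch.PicGrp Groth.Agent.Grpsch.Cube Groth.Agent.Sga7.H260.Square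

namespace K512.Slice

section Cat

variable {C : Type*} [Category C] [CartesianMonoidalCategory C] {A B : C}

/-- The slice `{x} × B`. -/
def j1 (B : C) (x : 𝟙_ C ⟶ A) : B ⟶ A ⊗ B := lift (toUnit B ≫ x) (𝟙 B)

/-- The slice `A × {y}`. -/
def j2 (A : C) (y : 𝟙_ C ⟶ B) : A ⟶ A ⊗ B := lift (𝟙 A) (toUnit A ≫ y)

@[reassoc (attr := simp)]
theorem j1_fst (x : 𝟙_ C ⟶ A) : j1 B x ≫ fst A B = toUnit B ≫ x := lift_fst _ _

@[reassoc (attr := simp)]
theorem j1_snd (x : 𝟙_ C ⟶ A) : j1 B x ≫ snd A B = 𝟙 B := lift_snd _ _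

@[reassoc (attr := simp)]
theorem j2_fst (y : 𝟙_ C ⟶ B) : j2 A y ≫ fst A B = 𝟙 A := lift_fst _ _

@[reassoc (attr := simp)]
theorem j2_snd (y : 𝟙_ C ⟶ B) : j2 A y ≫ snd A B = toUnit A ≫ y := lift_snd _ _

theorem isPullback_j1 (x : 𝟙_ C ⟶ A) : IsPullback (j1 B x) (toUnit B) (fst A B) x := by
  refine ⟨⟨by simp⟩, ⟨PullbackCone.IsLimit.mk _ (fun s => s.fst ≫ snd A B) (fun s => ?_) (fun s => ?_)
    (fun s m h1 h2 => ?_)⟩⟩
  · apply CartesianMonoidalCategory.hom_ext
    · rw [Category.assoc, j1_fst, ← Category.assoc, s.condition]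
      congr 1
      exact toUnit_unique _ _
    · simp
  · exact toUnit_unique _ _
  · rw [← h1, Category.assoc, j1_snd, Category.comp_id]

theorem isPullback_j2 (y : 𝟙_ C ⟶ B) : IsPullback (j2 A y) (toUnit A) (snd A B) y := by
  refine ⟨⟨by simp⟩, ⟨PullbackCone.IsLimit.mk _ (fun s => s.fst ≫ fst A B) (fun s => ?_) (fun s => ?_)
    (fun s m h1 h2 => ?_)⟩⟩
  · apply CartesianMonoidalCategory.hom_ext
    · simp
    · rw [Category.assoc, j2_snd, ← Category.assoc, s.condition]
      congr 1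
      exact toUnit_unique _ _
  · exact toUnit_unique _ _
  · rw [← h1, Category.assoc, j2_fst, Category.comp_id]

end Cat

variable {k : Type u} [Field k] {A B : Over (Spec (CommRingCat.of k))}

theorem isPullback_left_j1 (x : 𝟙_ (Over (Spec (CommRingCat.of k))) ⟶ A) :
    IsPullback (j1 B x).left (toUnit B).left (fst A B).left x.left :=
  (isPullback_j1 x).map (Over.forget _)

theorem isPullback_left_j2 (y : 𝟙_ (Over (Spec (CommRingCat.of k))) ⟶ B) :
    IsPullback (j2 A y).left (toUnit A).left (snd A B).left y.left :=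
  (isPullback_j2 y).map (Over.forget _)

theorem isProper_fst [IsProper B.hom] : IsProper (fst A B).left := by
  rw [Over.fst_left]; infer_instance

theorem flat_fst : Flat (fst A B).left := by
  rw [Over.fst_left]; infer_instance

theorem isProper_snd [IsProper A.hom] : IsProper (snd A B).left := by
  rw [Over.snd_left]; infer_instance

theorem flat_snd : Flat (snd A B).left := by
  rw [Over.snd_left]; infer_instance

/-- The class `c` has no cohomology. -/
def AcycCls {X : Scheme.{u}} (c : Pic X) : Prop :=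
  ∀ (L : X.Modules) (hL : PicF.IsInvertible L), c = mk L hL → ∀ n, Subsingleton (Coh.HH X L n)

theorem acycCls_mk {X : Scheme.{u}} {L : X.Modules} (hL : PicF.IsInvertible L) :
    AcycCls (mk L hL) ↔ ∀ n, Subsingleton (Coh.HH X L n) := by
  refine ⟨fun h => h L hL rfl, fun h M hM e n => ?_⟩
  obtain ⟨i⟩ := (mk_eq_iff hL hM).1 e
  exact Flat2D.LocalGlobalH.subsingleton_HH_of_iso i n (h n)

theorem not_acycCls_one {X : Scheme.{u}} [Nonempty X] : ¬ AcycCls (1 : Pic X) := by
  intro h
  rw [one_def, acycCls_mk] at h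
  have h1 := (FibAcyc.hh0_iff (X := X) (Coh.structureModule X)).1 (h 0)
  have h0 : Nonempty (⊤ : X.Opens) := ⟨⟨Classical.arbitrary X, trivial⟩⟩
  have h2 : Nontrivial Γ(X, ⊤) := Scheme.component_nontrivial X ⊤
  have h3 : (1 : Γ(X, ⊤)) = 0 := h1.elim (α := Γ(Coh.structureModule X, ⊤)) _ _
  exact one_ne_zero h3

section Fam

variable [IsAlgClosed k]

omit [IsAlgClosed k] in
theorem fibAcyc_iff {X Y XK : Scheme.{u}} (q : Y ⟶ Spec (CommRingCat.of k)) [LocallyOfFiniteType q]
    (π : X ⟶ Y) [IsProper π] (F : X.Modules) (hF : Coh.IsCoh F) (hfl : FlatMod.IsFlatOver π F)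
    (t : Spec (CommRingCat.of k) ⟶ Y) (g : XK ⟶ X) (πK : XK ⟶ Spec (CommRingCat.of k))
    (H : IsPullback g πK π t) :
    FinSupp.FibAcyc π F t ↔
      ∀ n, Subsingleton (Coh.HH XK ((Scheme.Modules.pullback g).obj F) n) := by
  have : IsLocallyNoetherian Y := LocallyOfFiniteType.isLocallyNoetherian q
  rw [← FinSupp.mem_locus_iff q π F hF hfl]
  constructor
  · rintro ⟨W, h1, h2, h3⟩
    exact FibAcyc.fibre_of_acycOver π F hF hfl t _ _ H (IsLocalRing.closedPoint k) W h1 h2 h3
  · intro h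
    exact FibAcyc.exists_acycOver π F hF hfl t _ _ H (IsLocalRing.closedPoint k) h

/-- If all the slices `{x} × B` of the class `N` are acyclic then so is `N`. -/
theorem acyc_of_j1 [LocallyOfFiniteType A.hom] [QuasiCompact A.hom] [IsSeparated A.hom] [IsProper B.hom] (N : Pic (A ⊗ B).left)
    (h : ∀ x : 𝟙_ (Over (Spec (CommRingCat.of k))) ⟶ A, AcycCls (pl (j1 B x) N)) : AcycCls N := by
  obtain ⟨F, hF, rfl⟩ := exists_mk N
  have i1 : IsProper (fst A B).left := isProper_fst
  have i2 : Flat (fst A B).left := flat_fst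
  rw [acycCls_mk]
  have hcoh := Groth.Agent.S2329.isCoh_of_isInvertible hF
  have hfl := Grpsch.CubeClosed.isFlatOver_of_isInvertible (fst A B).left hF
  refine FinSupp.acyc_total A.hom (fst A B).left F hcoh hfl fun t ht => ?_
  let x : 𝟙_ (Over (Spec (CommRingCat.of k))) ⟶ A := Over.homMk t ht
  rw [fibAcyc_iff A.hom (fst A B).left F hcoh hfl t (j1 B x).left (toUnit B).left
    (isPullback_left_j1 (B := B) x)]
  have h1 := h x
  rwa [pull_mk, acycCls_mk] at h1

/-- If `N` is acyclic and almost all its slices `A × {y}` are acyclic, then so are all of them. -/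
theorem acyc_j2 [LocallyOfFiniteType B.hom] [QuasiCompact B.hom] [IsSeparated B.hom] [IsProper A.hom] (N : Pic (A ⊗ B).left)
    (hN : AcycCls N) (Z : Set (𝟙_ (Over (Spec (CommRingCat.of k))) ⟶ B)) (hZ : Z.Finite)
    (h : ∀ y : 𝟙_ (Over (Spec (CommRingCat.of k))) ⟶ B, y ∉ Z → AcycCls (pl (j2 A y) N))
    (y : 𝟙_ (Over (Spec (CommRingCat.of k))) ⟶ B) : AcycCls (pl (j2 A y) N) := by
  obtain ⟨F, hF, rfl⟩ := exists_mk N
  have i1 : IsProper (snd A B).left := isProper_snd
  have i2 : Flat (snd A B).left := flat_snd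
  have hcoh := Groth.Agent.S2329.isCoh_of_isInvertible hF
  have hfl := Grpsch.CubeClosed.isFlatOver_of_isInvertible (snd A B).left hF
  rw [pull_mk, acycCls_mk, ← fibAcyc_iff B.hom (snd A B).left F hcoh hfl y.left (j2 A y).left
    (toUnit A).left (isPullback_left_j2 (A := A) y)]
  refine FinSupp.acyc_fibre B.hom (snd A B).left F hcoh hfl ((fun y => y.left) '' Z) (hZ.image _) ?_
    ((acycCls_mk hF).1 hN) (fun t ht htZ => ?_) y.left
  · rintro _ ⟨y, -, rfl⟩
    exact Pts.w_unit y
  · let y' : 𝟙_ (Over (Spec (CommRingCat.of k))) ⟶ B := Over.homMk t ht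
    rw [fibAcyc_iff B.hom (snd A B).left F hcoh hfl t (j2 A y').left (toUnit A).left
      (isPullback_left_j2 (A := A) y')]
    have h1 := h y' (fun hmem => htZ ⟨y', hmem, rfl⟩)
    rwa [pull_mk, acycCls_mk] at h1

end Fam

end K512.Slice
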