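import Groth.Agent.AbVar.K512.FMIso
import Groth.Agent.PerfB.FibreZero
import Groth.Agent.Models2.BaseChangeSq
import Groth.Agent.S1054
import Groth.Agent.PerfB.StructFlat
import Groth.Agent.Grpsch.CubeClosed

/-!
# Pull back of the integral transform of an invertible module
-/

set_option autoImplicit false
universe u

open CategoryTheory CategoryTheory.Limits AlgebraicGeometry
attribute [local instance] HasDerivedCategory.standard

namespace K512.FMPull

open Groth.Agent Groth.Agent.PerfB.TensInv Groth.Agent.Dcoh.DerPull K512.FMIso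

/-- `Lf^* L ⊗ -` : `Lf^*(L[0])` in terms of the structure sheaf, `f` flat. -/
noncomputable def pullInD {X Y : Scheme.{u}} (f : X ⟶ Y) [Flat f] {L : Y.Modules}
    (hL : PicF.IsInvertible L) [DCoh.HasLpull f] :
    (DCoh.Lpull f).obj (DCoh.inD Y L) ≅ DCoh.inD X ((Scheme.Modules.pullback f).obj L) :=
  haveI := hasLTensorMod_of_isInvertible hL
  haveI := hasLTensorMod_of_isInvertible (Fdesc.LocGen.isInvertible_pullback f hL)
  (DCoh.Lpull f).mapIso (PerfB.FibreZero.structureLTensor L).symm ≪≫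
    (ltPull f hL).app (DCoh.inD Y (Coh.structureModule Y)) ≪≫
    (DCoh.LTensorMod _).mapIso (PerfB.FibreZero.lpullStructure f) ≪≫
    PerfB.FibreZero.structureLTensor _

/-- `L[0] ⊗^L M ≅ (L ⊗ M)[0]` for invertible modules. -/
noncomputable def tensInD {X : Scheme.{u}} {L M : X.Modules} (hL : PicF.IsInvertible L)
    (hM : PicF.IsInvertible M) [DCoh.HasLTensorMod M] :
    (DCoh.LTensorMod M).obj (DCoh.inD X L) ≅ DCoh.inD X (CohB1.tensorMod L M) :=
  haveI := hasLTensorMod_of_isInvertible hL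
  haveI := hasLTensorMod_of_isInvertible (Fdesc.LocGen.isInvertible_tensorMod hL hM)
  (DCoh.LTensorMod M).mapIso (PerfB.FibreZero.structureLTensor L).symm ≪≫
    (ltComp hL hM).app (DCoh.inD X (Coh.structureModule X)) ≪≫
    PerfB.FibreZero.structureLTensor _

noncomputable def inDIso {X : Scheme.{u}} {L M : X.Modules} (e : L ≅ M) :
    DCoh.inD X L ≅ DCoh.inD X M := (DerivedCategory.singleFunctor X.Modules 0).mapIso e

variable {X Y W V S : Scheme.{u}} {p : W ⟶ X} {q : W ⟶ Y} {p' q' : V ⟶ X} {φ : X ⟶ Y} {g : V ⟶ W}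
  {a : X ⟶ S}

theorem nonempty_main [Flat p'] [Flat q'] [Flat q] [Flat a] [QuasiCompact q] [QuasiSeparated q]
    [QuasiCompact a] [QuasiSeparated a]
    (sq : IsPullback g q' q φ) (w : g ≫ p = p') (sq' : IsPullback p' q' a a) (T : V ⟶ V) [IsIso T]
    (w1 : T ≫ q' = q') {P : W.Modules} (hP : PicF.IsInvertible P) {L L' : X.Modules}
    (hL : PicF.IsInvertible L) (hL' : PicF.IsInvertible L')
    (e : CohB1.tensorMod ((Scheme.Modules.pullback p').obj L) ((Scheme.Modules.pullback g).obj P) ≅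
      CohB1.tensorMod ((Scheme.Modules.pullback T).obj ((Scheme.Modules.pullback p').obj L))
        ((Scheme.Modules.pullback q').obj L'))
    [DCoh.HasLpull p] [DCoh.HasLTensorMod P] [DCoh.HasRpush q]
    [DCoh.HasLpull φ] [DCoh.HasRpush a] [DCoh.HasLpull a] [DCoh.HasLTensorMod L'] :
    Nonempty ((DCoh.Lpull φ).obj ((DCoh.Rpush q).obj ((DCoh.LTensorMod P).obj
        ((DCoh.Lpull p).obj (DCoh.inD X L)))) ≅
      (DCoh.LTensorMod L').obj ((DCoh.Lpull a).obj ((DCoh.Rpush a).obj (DCoh.inD X L)))) := by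
  have hpL := Fdesc.LocGen.isInvertible_pullback p' hL
  have hgP := Fdesc.LocGen.isInvertible_pullback g hP
  have hTL := Fdesc.LocGen.isInvertible_pullback T hpL
  have hqL' := Fdesc.LocGen.isInvertible_pullback q' hL'
  have hO := Fdesc.LocGen.isInvertible_structureModule (X := X)
  have hpO := Fdesc.LocGen.isInvertible_pullback p' hO
  have i1 : DCoh.HasLpull g := hasLpull _
  have i2 : DCoh.HasLpull p' := hasLpull _
  have i3 : DCoh.HasRpush q' := Dcoh.DerSch.hasRpush _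
  have i4 : DCoh.HasLpull T := hasLpull _
  have i5 : DCoh.HasLpull (𝟙 X) := hasLpull _
  have i6 := hasLTensorMod_of_isInvertible hgP
  have i7 := hasLTensorMod_of_isInvertible hqL'
  have i8 := hasLTensorMod_of_isInvertible hO
  have i9 := hasLTensorMod_of_isInvertible hpO
  have hqc : DCoh.IsQCohD (DCoh.inD X L) :=
    PerfB.StructFlat.isQCohD_inD (PerfB.TensInv.isQCoh_of_isInvertible hL)
  have hqc' : DCoh.IsQCohD ((DCoh.Lpull p).obj (DCoh.inD X L)) := Groth.Agent.S1054.result p _ hqc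
  -- base change
  obtain ⟨b1⟩ := Models2.BaseChangeSq.baseChange q φ g q' sq _ hqc' P
    (PerfB.TensInv.isQCoh_of_isInvertible hP) (Grpsch.CubeClosed.isFlatOver_of_isInvertible q hP)
  obtain ⟨b2⟩ := Models2.BaseChangeSq.baseChange a a p' q' sq' _ hqc (Coh.structureModule X)
    (PerfB.TensInv.isQCoh_of_isInvertible hO) (Grpsch.CubeClosed.isFlatOver_of_isInvertible a hO)
  let c1 : (DCoh.Lpull a).obj ((DCoh.Rpush a).obj (DCoh.inD X L)) ≅
      (DCoh.Rpush q').obj ((DCoh.Lpull p').obj (DCoh.inD X L)) :=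
    ((DCoh.Rpush a) ⋙ (DCoh.Lpull a)).mapIso (ltUnit.app (DCoh.inD X L)).symm ≪≫ b2 ≪≫
      (DCoh.Rpush q').mapIso ((ltPull p' hO).symm.app (DCoh.inD X L) ≪≫
        (DCoh.Lpull p').mapIso (ltUnit.app (DCoh.inD X L)))
  let c2 : (DCoh.LTensorMod ((Scheme.Modules.pullback g).obj P)).obj
        ((DCoh.Lpull g).obj ((DCoh.Lpull p).obj (DCoh.inD X L))) ≅
      (DCoh.LTensorMod ((Scheme.Modules.pullback q').obj L')).obj
        ((DCoh.Lpull T).obj ((DCoh.Lpull p').obj (DCoh.inD X L))) :=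
    (DCoh.LTensorMod _).mapIso ((pullCompOf g p p' w).app _ ≪≫ pullInD p' hL) ≪≫
      tensInD hpL hgP ≪≫ inDIso e ≪≫ (tensInD hTL hqL').symm ≪≫
      (DCoh.LTensorMod _).mapIso ((pullInD T hpL).symm ≪≫ (DCoh.Lpull T).mapIso (pullInD p' hL).symm)
  let c3 : (DCoh.Rpush q').obj ((DCoh.LTensorMod ((Scheme.Modules.pullback q').obj L')).obj
        ((DCoh.Lpull T).obj ((DCoh.Lpull p').obj (DCoh.inD X L)))) ≅
      (DCoh.LTensorMod L').obj ((DCoh.Rpush q').obj
        ((DCoh.Lpull T).obj ((DCoh.Lpull p').obj (DCoh.inD X L)))) :=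
    (projInv q' hL').symm.app _
  let c4 : (DCoh.Rpush q').obj ((DCoh.Lpull T).obj ((DCoh.Lpull p').obj (DCoh.inD X L))) ≅
      (DCoh.Rpush q').obj ((DCoh.Lpull p').obj (DCoh.inD X L)) :=
    (bcIso q' q' T (𝟙 X) (by rw [w1, Category.comp_id])).symm.app _ ≪≫ pullId.app _
  exact ⟨b1 ≪≫ (DCoh.Rpush q').mapIso c2 ≪≫ c3 ≪≫ (DCoh.LTensorMod L').mapIso (c4 ≪≫ c1.symm)⟩

end K512.FMPull
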