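import Groth.Agent.AbVar.K524.Index
import Groth.Agent.Sga7.H756.RevIsog
import Groth.Agent.Fdesc.GrpDimHom
import Groth.Agent.Sga3C.DimTop
import Groth.Agent.Sga7.H758.EndRing

/-!
# The index of a nondegenerate class under isogenies, `k` algebraically closed
-/

set_option autoImplicit false
universe u

open CategoryTheory CategoryTheory.Limits MonoidalCategory CartesianMonoidalCategory AlgebraicGeometry
open scoped MonObj
open Groth.Agent Groth.Agent.Grpsch.PicGrp Groth.Agent.Grpsch.Cube K506.Transl K524.Kun K524.Index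

namespace K512.IsogIdx

variable {k : Type u} [Field k] {A B : Over (Spec (CommRingCat.of k))} [GrpObj A]
  [IsProper A.hom] [GeometricallyIntegral A.hom] [GrpObj B] [IsProper B.hom] [GeometricallyIntegral B.hom]

/-- Quasi-inverse of a finite surjective homomorphism. -/
theorem exists_rev (f : A ⟶ B) [IsMonHom f] [IsFinite f.left] [Surjective f.left] :
    ∃ (n : ℕ) (v : B ⟶ A), 1 ≤ n ∧ IsMonHom v ∧ f ≫ v = (𝟙 A) ^ n ∧ v ≫ f = (𝟙 B) ^ n := by
  refine Groth.Agent.Sga7.H756.RevIsog.exists_rev k f ⟨inferInstance, fun N i hi => ?_⟩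
  have h3 : IsPullback i.left (toUnit N).left f.left (η[B] : 𝟙_ (Over (Spec (CommRingCat.of k))) ⟶ B).left :=
    IsPullback.map (Over.forget _) hi
  exact MorphismProperty.of_isPullback (P := @IsFinite) h3 (inferInstance : IsFinite f.left)

theorem exists_dim (X : Over (Spec (CommRingCat.of k))) [GrpObj X] [LocallyOfFiniteType X.hom] :
    ∃ d : ℕ, topologicalKrullDim X.left = d := by
  obtain ⟨d, hd, -⟩ := Groth.Agent.Fdesc.GrpDimHom.rtd_eq X
  exact ⟨d, hd⟩

variable [IsAlgClosed k]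

theorem van_iff_of_hasIdx {X Y : Scheme.{u}} {c : Pic X} {d : Pic Y} {i : ℕ} (h : HasIdx c i)
    (h' : HasIdx d i) (j : ℕ) : Van c j ↔ Van d j := by
  by_cases hj : j = i
  · subst hj
    exact ⟨fun h1 => absurd h1 h.2, fun h1 => absurd h1 h'.2⟩
  · exact ⟨fun _ => h'.1 j hj, fun _ => h.1 j hj⟩

/-- Nondegenerate classes and their pull backs by isogenies vanish in the same degrees. -/
theorem van_pull_iff (f : A ⟶ B) [IsMonHom f] [IsFinite f.left] [Surjective f.left] {c : Pic B.left}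
    (hc : ND c) : ND (pl f c) ∧ ∀ j, Van c j ↔ Van (pl f c) j := by
  obtain ⟨n, v, hn, -, -, hv⟩ := exists_rev f
  refine ⟨ND.pullback f v hn hv hc, fun j => ?_⟩
  obtain ⟨g, hg⟩ := exists_dim B
  obtain ⟨i, -, hi, -⟩ := hc.exists_idx g hg
  have hA : topologicalKrullDim A.left ≤ g := by
    rw [← hg]
    exact (Sga3C.DimTop.topologicalKrullDim_eq_of_isIntegralHom f.left).le
  exact van_iff_of_hasIdx hi (HasIdx.pullback f v hn hv g hg hA hc hi) j

/-- `c` and `c ^ m²` vanish in the same degrees, `c` nondegenerate. -/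
theorem van_pow_sq_iff {c : Pic A.left} (hc : ND c) {m : ℕ} (hm : 1 ≤ m) (j : ℕ) :
    Van c j ↔ Van (c ^ (m ^ 2)) j := by
  have hcomm : IsCommMonObj A := isCommMonObj_of_isProper_of_geometricallyIntegral A
  obtain ⟨g, hg⟩ := exists_dim A
  obtain ⟨i, -, hi, -⟩ := hc.exists_idx g hg
  let f : A ⟶ A := 𝟙 A ^ m
  have hf : IsMonHom f := Groth.Agent.Sga7.H758.EndRing.isMonHom_pow (𝟙 A) m
  have hfin : IsFinite f.left := Grpsch.MulFin.isFinite_pow A m hm
  have h1 := HasIdx.pullback f (𝟙 A) hm (Category.id_comp _) g hg hg.le hc hi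
  have h2 := ND.pullback f (𝟙 A) hm (Category.id_comp _) hc
  have hp : Inv (c ^ (m ^ 2) * (pl f c)⁻¹) := by
    rw [inv_iff_phi]
    intro x
    rw [phi_cmul, phi_cpow, phi_cinv, phi_pl]
    have h3 : x ≫ f = x ^ m := by rw [MonObj.comp_pow, Category.comp_id]
    have h4 : ∀ n : ℕ, pl (𝟙 A ^ n) (phi c (x ^ m)) = phi c (x ^ m) ^ n := by
      intro n
      induction n with
      | zero => rw [pow_zero, pow_zero, pl_one]
      | succ n ih => rw [pow_succ, pl_mul_of_inv (phi_transl c _), ih, pl_id, pow_succ]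
    rw [h3, h4, phi_pow, ← pow_mul, sq, mul_inv_cancel]
  have h5 := HasIdx.twist h2 hp h1
  rw [mul_comm, inv_mul_cancel_right] at h5
  exact van_iff_of_hasIdx hi h5 j

end K512.IsogIdx
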