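import Groth.Agent.AbDual.K732.AV

/-!
# Translates of the Poincaré class

`ξ` the Poincaré class on `A ⊗ At`:
* `ev_mul_right`: `ξ(a, y z) = ξ(a, y) ξ(a, z)`;
* `pull_right`: `(1 × t_x)^* ξ = ξ ⊗ pr₁^* ξ(-, x)`;
* `pull_left`: `(t_x × 1)^* ξ = ξ ⊗ pr₂^* ξ(x, -)`.
-/

set_option autoImplicit false
universe u

open CategoryTheory CategoryTheory.Limits MonoidalCategory CartesianMonoidalCategory MonObj GrpObj
  AlgebraicGeometry

namespace K512.PoincId

open Groth.Agent.Grpsch.PicGrp Groth.Agent.Fga.RigGrp K732.Cov K732.PicZero K732.RigSheaf K732.Dual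
open K732.CubeSec K732.Transp K732.Prim

variable {S : Scheme.{u}} [IsLocallyNoetherian S] {A At : Over S} [GrpObj A] [GrpObj At]
  [IsProper A.hom] [Flat A.hom] [LocallyOfFinitePresentation A.hom] [GeometricallyIntegral A.hom]
  {φ : ∀ T : Over S, PicF.Cl (PicF.XT A.hom T) → (T ⟶ At)}
  (hD : AbDual.IsDualAV Scheme.fppfPrecoverage A At φ)
  {ξ : Pic (PicF.XT A.hom At)} (h1 : ξ ∈ pz A.hom At) (h2 : ξ ∈ rg A At) (h3 : cm φ ξ = 𝟙 At)

include hD h1 h2 h3

omit [IsLocallyNoetherian S] in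
/-- The Poincaré class is additive in the second variable. -/
theorem ev_mul_right {W : Over S} (a : W ⟶ A) (y z : W ⟶ At) :
    ev a (y * z) ξ = ev a y ξ * ev a z ξ := by
  have e : pull (PicF.XTmap A.hom (y * z)) ξ =
      pull (PicF.XTmap A.hom y) ξ * pull (PicF.XTmap A.hom z) ξ := by
    refine cm_inj hD (bijective_XTproj A.hom) (pull_XTmap_mem _ h1)
      (mul_mem (pull_XTmap_mem _ h1) (pull_XTmap_mem _ h1)) (pull_mem _ h2)
      (mul_mem (pull_mem _ h2) (pull_mem _ h2)) ?_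
    rw [cm_mul hD (pull_XTmap_mem _ h1) (pull_XTmap_mem _ h1), cm_pull hD _ h1, cm_pull hD _ h1,
      cm_pull hD _ h1, h3, Category.comp_id, Category.comp_id, Category.comp_id]
  have e2 := congrArg (ev a (𝟙 W)) e
  rwa [map_mul, ev_XTmap, ev_XTmap, ev_XTmap, Category.id_comp, Category.id_comp,
    Category.id_comp] at e2

omit [IsLocallyNoetherian S] in
/-- `(1 × t_x)^* ξ`. -/
theorem pull_right (x : 𝟙_ (Over S) ⟶ At) :
    pull (lift (fst A At) (snd A At ≫ (𝟙 At * (toUnit At ≫ x)))).left ξ =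
      (show Pic (A ⊗ At).left from ξ) *
        pull (fst A At).left (pull (lift (𝟙 A) (toUnit A ≫ x)).left ξ) := by
  have e1 : snd A At ≫ (𝟙 At * (toUnit At ≫ x)) = snd A At * (fst A At ≫ toUnit A ≫ x) := by
    rw [MonObj.comp_mul, Category.comp_id, ← Category.assoc, ← Category.assoc,
      toUnit_unique (snd A At ≫ toUnit At) (fst A At ≫ toUnit A)]
  rw [e1]
  have e2 := ev_mul_right hD h1 h2 h3 (fst A At) (snd A At) (fst A At ≫ toUnit A ≫ x)
  rw [ev_univ] at e2
  have e3 := pull_ev (fst A At) (𝟙 A) (toUnit A ≫ x) ξ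
  rw [Category.comp_id] at e3
  exact e2.trans (congrArg ((show Pic (A ⊗ At).left from ξ) * ·) e3.symm)

variable [LocallyOfFiniteType At.hom] [GeometricallyConnected At.hom]

/-- `(t_x × 1)^* ξ`. -/
theorem pull_left (x : 𝟙_ (Over S) ⟶ A) :
    pull (lift (fst A At ≫ (𝟙 A * (toUnit A ≫ x))) (snd A At)).left ξ =
      (show Pic (A ⊗ At).left from ξ) *
        pull (snd A At).left (pull (lift (toUnit At ≫ x) (𝟙 At)).left ξ) := by
  have e1 : fst A At ≫ (𝟙 A * (toUnit A ≫ x)) = fst A At * (snd A At ≫ toUnit At ≫ x) := by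
    rw [MonObj.comp_mul, Category.comp_id, ← Category.assoc, ← Category.assoc,
      toUnit_unique (snd A At ≫ toUnit At) (fst A At ≫ toUnit A)]
  rw [e1]
  have e2 := poinc_mul hD h1 h2 h3 (fst A At) (snd A At ≫ toUnit At ≫ x) (snd A At)
  rw [ev_univ] at e2
  have e3 := pull_ev (snd A At) (toUnit At ≫ x) (𝟙 At) ξ
  rw [Category.comp_id] at e3
  exact e2.trans (congrArg ((show Pic (A ⊗ At).left from ξ) * ·) e3.symm)

end K512.PoincId
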