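import Groth.Agent.PerfB.BCFrozen280
import Groth.Agent.Grpsch.PicGrp
import Groth.Agent.Dcoh.DerPull2
import Groth.Agent.Dcoh.MapDer
import Groth.Agent.PerfB.TensInv
import Groth.Agent.PerfB.FlatPull
import Groth.Agent.Models2.TensCongr

/-!
# Natural isomorphisms between `Lf^*`, `Rf_*` and `- ⊗^L L`, `L` invertible

All are isomorphisms of functors on the whole derived categories `D(O_X)`:
* `ltComp`, `ltUnit`, `ltSwap`, `ltInv` : calculus of `- ⊗^L L`;
* `ltPull f` : `- ⊗^L L` followed by `Lf^*`, for `f` flat;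
* `pullId`, `pushId`, `pushIso` : pushing along an isomorphism is pulling along the inverse;
* `bcIso` : base change along isomorphisms;
* `projInv f` : the projection formula for an invertible module, `f` flat.
-/

set_option autoImplicit false
universe u

open CategoryTheory CategoryTheory.Limits AlgebraicGeometry
attribute [local instance] HasDerivedCategory.standard

namespace K512.FMIso

open Groth.Agent Groth.Agent.PerfB.TensExact Groth.Agent.PerfB.TensInv Groth.Agent.Dcoh.MapDer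
  Groth.Agent.Dcoh.DerPull

variable {X Y Z : Scheme.{u}}

section Tens

variable {L M N : X.Modules}

theorem pfl (h : PicF.IsInvertible M) : PreservesFiniteLimits (DCoh.tensorRightMod M) :=
  preservesFiniteLimits_of_isInvertible h

/-- `(- ⊗^L M) ⊗^L N ≅ - ⊗^L (M ⊗ N)`. -/
noncomputable def ltComp (hM : PicF.IsInvertible M) (hN : PicF.IsInvertible N)
    [DCoh.HasLTensorMod M] [DCoh.HasLTensorMod N] [DCoh.HasLTensorMod (CohB1.tensorMod M N)] :
    DCoh.LTensorMod M ⋙ DCoh.LTensorMod N ≅ DCoh.LTensorMod (CohB1.tensorMod M N) :=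
  haveI := pfl hM
  haveI := pfl hN
  haveI := pfl (Fdesc.LocGen.isInvertible_tensorMod hM hN)
  Functor.isoWhiskerRight (LTensorModIso M) _ ≪≫ Functor.isoWhiskerLeft _ (LTensorModIso N) ≪≫
    mapDerCompIso (tensorRightModComp M N) ≪≫ (LTensorModIso _).symm

/-- `- ⊗^L M` depends only on the isomorphism class of `M`. -/
noncomputable abbrev ltCongr (e : M ≅ N) [DCoh.HasLTensorMod M] [DCoh.HasLTensorMod N] :
    DCoh.LTensorMod M ≅ DCoh.LTensorMod N := Models2.TensCongr.LTensorModCongr e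

/-- `- ⊗^L O ≅ id`. -/
noncomputable def ltUnit [DCoh.HasLTensorMod (Coh.structureModule X)] :
    DCoh.LTensorMod (Coh.structureModule X) ≅ 𝟭 _ :=
  haveI := pfl (Fdesc.LocGen.isInvertible_structureModule (X := X))
  LTensorModIso _ ≪≫ mapDerIso tensorRightModUnit ≪≫ mapDerId _

/-- The functors `- ⊗^L M` and `- ⊗^L N` commute. -/
noncomputable def ltSwap (hM : PicF.IsInvertible M) (hN : PicF.IsInvertible N)
    [DCoh.HasLTensorMod M] [DCoh.HasLTensorMod N] :
    DCoh.LTensorMod M ⋙ DCoh.LTensorMod N ≅ DCoh.LTensorMod N ⋙ DCoh.LTensorMod M :=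
  haveI := hasLTensorMod_of_isInvertible (Fdesc.LocGen.isInvertible_tensorMod hM hN)
  haveI := hasLTensorMod_of_isInvertible (Fdesc.LocGen.isInvertible_tensorMod hN hM)
  ltComp hM hN ≪≫ ltCongr (Ega2.Tens.swap M N) ≪≫ (ltComp hN hM).symm

/-- `(- ⊗^L M) ⊗^L N ≅ - ⊗^L K` if `M ⊗ N ≅ K`. -/
noncomputable def ltCompOf (hM : PicF.IsInvertible M) (hN : PicF.IsInvertible N)
    (e : CohB1.tensorMod M N ≅ L)
    [DCoh.HasLTensorMod M] [DCoh.HasLTensorMod N] [DCoh.HasLTensorMod L] :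
    DCoh.LTensorMod M ⋙ DCoh.LTensorMod N ≅ DCoh.LTensorMod L :=
  haveI := hasLTensorMod_of_isInvertible (Fdesc.LocGen.isInvertible_tensorMod hM hN)
  ltComp hM hN ≪≫ ltCongr e

/-- `(- ⊗^L M) ⊗^L N ≅ id` if `M ⊗ N ≅ O`. -/
noncomputable def ltInv (hM : PicF.IsInvertible M) (hN : PicF.IsInvertible N)
    (e : CohB1.tensorMod M N ≅ Coh.structureModule X) [DCoh.HasLTensorMod M] [DCoh.HasLTensorMod N] :
    DCoh.LTensorMod M ⋙ DCoh.LTensorMod N ≅ 𝟭 _ :=
  haveI := hasLTensorMod_of_isInvertible (Fdesc.LocGen.isInvertible_structureModule (X := X))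
  ltCompOf hM hN e ≪≫ ltUnit

/-- `- ⊗^L M` is an equivalence with inverse `- ⊗^L N` if `M ⊗ N ≅ O`. -/
noncomputable def ltEquiv (hM : PicF.IsInvertible M) (hN : PicF.IsInvertible N)
    (e : CohB1.tensorMod M N ≅ Coh.structureModule X) [DCoh.HasLTensorMod M] [DCoh.HasLTensorMod N] :
    DCoh.D X ≌ DCoh.D X :=
  CategoryTheory.Equivalence.mk (DCoh.LTensorMod M) (DCoh.LTensorMod N) (ltInv hM hN e).symm
    (ltInv hN hM (Ega2.Tens.swap N M ≪≫ e))

end Tens

section Pull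

/-- `L(id)^* ≅ id`. -/
noncomputable def pullId [DCoh.HasLpull (𝟙 X)] : DCoh.Lpull (𝟙 X) ≅ 𝟭 _ :=
  lpullFlatIso (𝟙 X) ≪≫ mapDerIso (Scheme.Modules.pullbackId X) ≪≫ mapDerId _

/-- `Lf^*` of a tensor product with an invertible module, `f` flat. -/
noncomputable def ltPull (f : X ⟶ Y) [Flat f] {M : Y.Modules} (hM : PicF.IsInvertible M)
    [DCoh.HasLpull f] [DCoh.HasLTensorMod M] [DCoh.HasLTensorMod ((Scheme.Modules.pullback f).obj M)] :
    DCoh.LTensorMod M ⋙ DCoh.Lpull f ≅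
      DCoh.Lpull f ⋙ DCoh.LTensorMod ((Scheme.Modules.pullback f).obj M) :=
  haveI := pfl hM
  haveI := pfl (Fdesc.LocGen.isInvertible_pullback f hM)
  haveI := PerfB.FlatPull.preservesFiniteLimits_pullback f
  haveI : PreservesFiniteLimits (Scheme.Modules.pullback f ⋙
    DCoh.tensorRightMod ((Scheme.Modules.pullback f).obj M)) := comp_preservesFiniteLimits _ _
  haveI : PreservesFiniteColimits (Scheme.Modules.pullback f ⋙
    DCoh.tensorRightMod ((Scheme.Modules.pullback f).obj M)) := comp_preservesFiniteColimits _ _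
  Functor.isoWhiskerRight (LTensorModIso M) _ ≪≫ Functor.isoWhiskerLeft _ (lpullFlatIso f) ≪≫
    mapDerCompIso (PerfB.BCFrozen280.pullTens f M) ≪≫
    (mapDerComp (Scheme.Modules.pullback f) (DCoh.tensorRightMod ((Scheme.Modules.pullback f).obj M))).symm ≪≫
    Functor.isoWhiskerRight (lpullFlatIso f).symm _ ≪≫ Functor.isoWhiskerLeft _ (LTensorModIso _).symm

/-- variant of `ltPull` for a module isomorphic to the pullback. -/
noncomputable def ltPullOf (f : X ⟶ Y) [Flat f] {M : Y.Modules} (hM : PicF.IsInvertible M)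
    {M' : X.Modules} (e : (Scheme.Modules.pullback f).obj M ≅ M')
    [DCoh.HasLpull f] [DCoh.HasLTensorMod M] [DCoh.HasLTensorMod M'] :
    DCoh.LTensorMod M ⋙ DCoh.Lpull f ≅ DCoh.Lpull f ⋙ DCoh.LTensorMod M' :=
  haveI := hasLTensorMod_of_isInvertible (Fdesc.LocGen.isInvertible_pullback f hM)
  ltPull f hM ≪≫ Functor.isoWhiskerLeft _ (ltCongr e)

/-- `L(f ≫ g)^* = Lg^* ⋙ Lf^*`, with a named composite. -/
noncomputable def pullCompOf (f : X ⟶ Y) (g : Y ⟶ Z) (h : X ⟶ Z) (w : f ≫ g = h)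
    [DCoh.HasLpull f] [DCoh.HasLpull g] [DCoh.HasLpull h] :
    DCoh.Lpull g ⋙ DCoh.Lpull f ≅ DCoh.Lpull h :=
  haveI : DCoh.HasLpull (f ≫ g) := hasLpull _
  lpullCompIso f g ≪≫ lpullCongr w

/-- `L(id)^* ≅ id`, with a named morphism. -/
noncomputable def pullIdOf (f : X ⟶ X) (w : f = 𝟙 X) [DCoh.HasLpull f] : DCoh.Lpull f ≅ 𝟭 _ :=
  haveI : DCoh.HasLpull (𝟙 X) := hasLpull _
  lpullCongr w ≪≫ pullId

/-- Pullback along an isomorphism is an equivalence. -/
noncomputable def pullEquiv (f : X ⟶ Y) (g : Y ⟶ X) (h1 : f ≫ g = 𝟙 X) (h2 : g ≫ f = 𝟙 Y)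
    [DCoh.HasLpull f] [DCoh.HasLpull g] : DCoh.D Y ≌ DCoh.D X :=
  haveI : DCoh.HasLpull (𝟙 X) := hasLpull _
  haveI : DCoh.HasLpull (𝟙 Y) := hasLpull _
  CategoryTheory.Equivalence.mk (DCoh.Lpull f) (DCoh.Lpull g)
    (pullCompOf g f (𝟙 Y) h2 ≪≫ pullId).symm (pullCompOf f g (𝟙 X) h1 ≪≫ pullId)

/-- `Rf_* ≅ L(f⁻¹)^*` for an isomorphism `f`. -/
noncomputable def pushIso (f : X ⟶ Y) (g : Y ⟶ X) (h1 : f ≫ g = 𝟙 X) (h2 : g ≫ f = 𝟙 Y)
    [DCoh.HasRpush f] [DCoh.HasLpull g] : DCoh.Rpush f ≅ DCoh.Lpull g :=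
  haveI : DCoh.HasLpull f := hasLpull _
  (lpullAdj f).rightAdjointUniq (pullEquiv f g h1 h2).toAdjunction

/-- Base change along isomorphisms. -/
noncomputable def bcIso {X' Y' : Scheme.{u}} (q : X ⟶ Y) (q' : X' ⟶ Y') (T : X' ⟶ X) (t : Y' ⟶ Y)
    [IsIso T] [IsIso t] (w : T ≫ q = q' ≫ t)
    [DCoh.HasRpush q] [DCoh.HasRpush q'] [DCoh.HasLpull T] [DCoh.HasLpull t] :
    DCoh.Rpush q ⋙ DCoh.Lpull t ≅ DCoh.Lpull T ⋙ DCoh.Rpush q' :=
  haveI : DCoh.HasRpush (inv t) := Dcoh.DerSch.hasRpush _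
  haveI : DCoh.HasRpush (inv T) := Dcoh.DerSch.hasRpush _
  haveI : DCoh.HasRpush (q ≫ inv t) := Dcoh.DerSch.hasRpush _
  haveI : DCoh.HasRpush (inv T ≫ q') := Dcoh.DerSch.hasRpush _
  haveI : DCoh.HasLpull q := hasLpull _
  haveI : DCoh.HasLpull (inv t) := hasLpull _
  haveI : DCoh.HasLpull (q ≫ inv t) := hasLpull _
  haveI : DCoh.HasLpull q' := hasLpull _
  haveI : DCoh.HasLpull (inv T) := hasLpull _
  haveI : DCoh.HasLpull (inv T ≫ q') := hasLpull _
  have w' : q ≫ inv t = inv T ≫ q' := by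
    rw [IsIso.comp_inv_eq, Category.assoc, ← w, IsIso.inv_hom_id_assoc]
  Functor.isoWhiskerLeft _ (pushIso (inv t) t (by simp) (by simp)).symm ≪≫
    rpushCompIso q (inv t) ≪≫ rpushCongr w' ≪≫ (rpushCompIso (inv T) q').symm ≪≫
    Functor.isoWhiskerRight (pushIso (inv T) T (by simp) (by simp)) _

/-- The projection formula for an invertible module, `f` flat. -/
noncomputable def projInv (f : X ⟶ Y) [Flat f] {L : Y.Modules} (hL : PicF.IsInvertible L)
    [DCoh.HasRpush f] [DCoh.HasLTensorMod L] [DCoh.HasLTensorMod ((Scheme.Modules.pullback f).obj L)] :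
    DCoh.Rpush f ⋙ DCoh.LTensorMod L ≅
      DCoh.LTensorMod ((Scheme.Modules.pullback f).obj L) ⋙ DCoh.Rpush f :=
  haveI : DCoh.HasLpull f := hasLpull _
  have H := Grpsch.PicGrp.exists_inverse hL
  let N := H.choose
  have hN : PicF.IsInvertible N := H.choose_spec.1
  let e : CohB1.tensorMod L N ≅ Coh.structureModule Y := H.choose_spec.2.some
  have hL' := Fdesc.LocGen.isInvertible_pullback f hL
  have hN' := Fdesc.LocGen.isInvertible_pullback f hN
  haveI := hasLTensorMod_of_isInvertible hN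
  haveI := hasLTensorMod_of_isInvertible hN'
  let e' : CohB1.tensorMod ((Scheme.Modules.pullback f).obj L) ((Scheme.Modules.pullback f).obj N) ≅
      Coh.structureModule X :=
    (@asIso _ _ _ _ (Grpsch.PicGrp.pullTensor f L N) (Grpsch.PicGrp.isIso_pullTensor f hL hN)).symm ≪≫
      (Scheme.Modules.pullback f).mapIso e ≪≫
      (@asIso _ _ _ _ _ (Grpsch.PicGrp.isIso_pullOne f)).symm
  conjugateIsoEquiv
    (((ltEquiv hN hL (Ega2.Tens.swap N L ≪≫ e)).toAdjunction).comp (lpullAdj f))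
    ((lpullAdj f).comp (ltEquiv hN' hL' (Ega2.Tens.swap _ _ ≪≫ e')).toAdjunction)
    (ltPull f hN).symm

end Pull

end K512.FMIso
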