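import Groth.Agent.AbVar.K512.FibAcyc
import Groth.Agent.AbVar.K512.Pts

/-!
# Families over an algebraically closed field, acyclic outside finitely many points

`π : X ⟶ Y` proper, `Y` separated of finite type over an algebraically closed field `k`, `F` coherent
and flat over `Y`.
* `acyc_total`: if all cohomology of the fibres of `F` at all rational points of `Y` vanishes, then
  `H^n(X, F) = 0` for all `n`;
* `acyc_fibre`: if `H^n(X, F) = 0` for all `n` and the fibres at all rational points outside a finite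
  set are acyclic, then all the fibres at rational points are acyclic.
-/

set_option autoImplicit false
universe u

open CategoryTheory CategoryTheory.Limits AlgebraicGeometry Opposite TopologicalSpace
open Groth.Agent K512.Acyc

namespace K512.FinSupp

section Cut

variable {X Y : Scheme.{u}} {π : X ⟶ Y} [QuasiCompact π] [IsSeparated π] {F : X.Modules}

/-- The points having an affine neighbourhood over which `F` is acyclic. -/
def locus (π : X ⟶ Y) (F : X.Modules) : Set Y :=
  {y | ∃ W : Y.Opens, IsAffineOpen W ∧ y ∈ W ∧ AcycOver π F W}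

omit [QuasiCompact π] [IsSeparated π] in
theorem isOpen_locus : IsOpen (locus π F) := by
  rw [isOpen_iff_forall_mem_open]
  rintro y ⟨W, h1, h2, h3⟩
  exact ⟨W, fun z hz => ⟨W, h1, hz, h3⟩, W.2, h2⟩

theorem acycOver_top_of_locus [Y.IsSeparated] [CompactSpace Y] (hF : Coh.IsQCoh F)
    (h : locus π F = Set.univ) : AcycOver π F ⊤ :=
  acycOver_of_local hF ⊤ (fun y _ => by
    have : y ∈ locus π F := h ▸ Set.mem_univ y
    exact this) ⊤ isCompact_univ le_rfl

/-- If `F` has no cohomology at all and is locally acyclic outside finitely many closed points, then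
it is locally acyclic everywhere. -/
theorem locus_eq_univ [Y.IsSeparated] [NoetherianSpace Y] (hF : Coh.IsQCoh F) (htop : AcycOver π F ⊤)
    (Z : Set Y) (hZ : Z.Finite) (hcl : ∀ z ∈ Z, IsClosed ({z} : Set Y)) (hloc : Zᶜ ⊆ locus π F) :
    locus π F = Set.univ := by
  rw [Set.eq_univ_iff_forall]
  intro z
  by_cases hz : z ∈ Z
  swap
  · exact hloc hz
  have hcl' : ∀ Z' ⊆ Z, IsClosed Z' := by
    intro Z' hZ'
    have h1 : Z' = ⋃ z ∈ Z', {z} := by simp
    rw [h1]
    exact (hZ.subset hZ').isClosed_biUnion fun z hz => hcl z (hZ' hz)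
  let U : Y.Opens := ⟨Zᶜ, (hcl' Z subset_rfl).isOpen_compl⟩
  let A : Y.Opens := ⟨(Z \ {z})ᶜ, (hcl' _ Set.sdiff_subset).isOpen_compl⟩
  let B : Y.Opens := ⟨({z} : Set Y)ᶜ, (hcl z hz).isOpen_compl⟩
  have hUloc : ∀ V : Y.Opens, V ≤ U → AcycOver π F V := fun V hV =>
    acycOver_of_local hF U (fun y hy => hloc hy) V (NoetherianSpace.isCompact _) hV
  have hAB : A ⊔ B = ⊤ := by
    apply Opens.ext
    ext y
    simp only [Opens.coe_sup, Opens.coe_top, Set.mem_univ, iff_true, Set.mem_union]
    by_cases hy : y = z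
    · left
      change y ∈ (Z \ {z})ᶜ
      simp [hy]
    · right
      exact hy
  have hAB' : A ⊓ B ≤ U := by
    rintro y ⟨hy1, hy2⟩ hyZ
    exact hy1 ⟨hyZ, hy2⟩
  have hA : AcycOver π F A := AcycOver.left (hUloc _ hAB') (hAB.symm ▸ htop)
  have hzA : z ∈ A := by
    change z ∈ (Z \ {z})ᶜ
    simp
  obtain ⟨_, ⟨V, hV, rfl⟩, hzV, hVA⟩ := Y.isBasis_affineOpens.exists_subset_of_mem_open
    (show z ∈ (A : Set Y) from hzA) A.2
  refine ⟨V, hV, hzV, ?_⟩
  have hUV : U ⊔ V = A := by
    apply le_antisymm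
    · refine sup_le ?_ hVA
      intro y hy hy'
      exact hy hy'.1
    · intro y hy
      by_cases hyz : y = z
      · exact Or.inr (hyz ▸ hzV)
      · refine Or.inl fun hyZ => ?_
        exact hy ⟨hyZ, hyz⟩
  exact AcycOver.right (hUloc _ inf_le_left) (hUV.symm ▸ hA)

/-- The locus contains a point as soon as ... -/
theorem subset_of_closedPoints [JacobsonSpace Y] (Z : Set Y) (hZ : Z.Finite)
    (hcl : ∀ z ∈ Z, IsClosed ({z} : Set Y)) {O : Set Y} (hO : IsOpen O)
    (h : ∀ y, IsClosed ({y} : Set Y) → y ∉ Z → y ∈ O) : Zᶜ ⊆ O := by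
  rw [Set.compl_subset_comm]
  have h1 := JacobsonSpace.closure_inter_closedPoints_eq_closure hO.isClosed_compl.isLocallyClosed
  rw [hO.isClosed_compl.closure_eq] at h1
  rw [← h1]
  have h2 : Oᶜ ∩ closedPoints Y ⊆ Z := by
    rintro y ⟨hy, hy'⟩
    by_contra hyZ
    exact hy (h y hy' hyZ)
  refine closure_minimal h2 ?_
  have h3 : Z = ⋃ z ∈ Z, {z} := by simp
  rw [h3]
  exact hZ.isClosed_biUnion fun z hz => hcl z hz

end Cut

variable {k : Type u} [Field k] [IsAlgClosed k] {X Y : Scheme.{u}} (q : Y ⟶ Spec (CommRingCat.of k))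
  [LocallyOfFiniteType q] [QuasiCompact q] [IsSeparated q] (π : X ⟶ Y) [IsProper π] (F : X.Modules)
  (hF : Coh.IsCoh F) (hfl : FlatMod.IsFlatOver π F)

/-- The fibre of `F` at the point `t` is acyclic. -/
def FibAcyc (t : Spec (CommRingCat.of k) ⟶ Y) : Prop :=
  ∀ n, Subsingleton (Coh.HH (pullback π t) ((Scheme.Modules.pullback (pullback.fst π t)).obj F) n)

omit [IsAlgClosed k] [LocallyOfFiniteType q] [QuasiCompact q] in
include q in
theorem y_isSeparated : Y.IsSeparated := by
  have : terminal.from Y = q ≫ terminal.from _ := terminal.hom_ext _ _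
  exact ⟨by rw [this]; infer_instance⟩

omit [IsAlgClosed k] [QuasiCompact q] [IsSeparated q] in
include q hF hfl in
theorem mem_locus_iff (t : Spec (CommRingCat.of k) ⟶ Y) :
    t (IsLocalRing.closedPoint k) ∈ locus π F ↔ FibAcyc π F t := by
  have : IsLocallyNoetherian Y := LocallyOfFiniteType.isLocallyNoetherian q
  constructor
  · rintro ⟨W, h1, h2, h3⟩
    exact FibAcyc.fibre_of_acycOver π F hF hfl t _ _ (IsPullback.of_hasPullback π t)
      (IsLocalRing.closedPoint k) W h1 h2 h3
  · intro h
    exact FibAcyc.exists_acycOver π F hF hfl t _ _ (IsPullback.of_hasPullback π t)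
      (IsLocalRing.closedPoint k) h

include q hF hfl in
/-- If all the fibres are acyclic then so is the total space. -/
theorem acyc_total (h : ∀ t : Spec (CommRingCat.of k) ⟶ Y, t ≫ q = 𝟙 _ → FibAcyc π F t) :
    ∀ n, Subsingleton (Coh.HH X F n) := by
  have := y_isSeparated q
  have : CompactSpace Y := QuasiCompact.compactSpace_of_compactSpace q
  have : JacobsonSpace Y := LocallyOfFiniteType.jacobsonSpace q
  rw [← acycOver_top_iff (f := π)]
  refine acycOver_top_of_locus hF.1 ?_
  have h1 := subset_of_closedPoints (Y := Y) ∅ Set.finite_empty (by simp) (isOpen_locus (π := π) (F := F)) ?_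
  · rwa [Set.compl_empty, Set.univ_subset_iff] at h1
  · intro y hy _
    have h2 := h (pointOfClosedPoint q y hy) (pointOfClosedPoint_comp q y hy)
    rw [← mem_locus_iff q π F hF hfl] at h2
    have e : pointOfClosedPoint q y hy (IsLocalRing.closedPoint k) = y :=
      pointOfClosedPoint_apply _ _ _ _
    exact e ▸ h2

include q hF hfl in
/-- If the total space is acyclic and almost all fibres are, then all fibres are acyclic. -/
theorem acyc_fibre (Z : Set (Spec (CommRingCat.of k) ⟶ Y)) (hZ : Z.Finite)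
    (hZk : ∀ t ∈ Z, t ≫ q = 𝟙 _) (htot : ∀ n, Subsingleton (Coh.HH X F n))
    (h : ∀ t : Spec (CommRingCat.of k) ⟶ Y, t ≫ q = 𝟙 _ → t ∉ Z → FibAcyc π F t)
    (t : Spec (CommRingCat.of k) ⟶ Y) : FibAcyc π F t := by
  have := y_isSeparated q
  have : CompactSpace Y := QuasiCompact.compactSpace_of_compactSpace q
  have : IsLocallyNoetherian Y := LocallyOfFiniteType.isLocallyNoetherian q
  have : IsNoetherian Y := { }
  have : JacobsonSpace Y := LocallyOfFiniteType.jacobsonSpace q
  rw [← mem_locus_iff q π F hF hfl]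
  have hcl : ∀ z ∈ (fun t : Spec (CommRingCat.of k) ⟶ Y => t (IsLocalRing.closedPoint k)) '' Z,
      IsClosed ({z} : Set Y) := by
    rintro _ ⟨t, ht, rfl⟩
    exact (pointEquivClosedPoint q ⟨t, hZk t ht⟩).2
  have h1 := locus_eq_univ (π := π) (F := F) hF.1 (acycOver_top_iff.2 htot) _
    (hZ.image fun t => t (IsLocalRing.closedPoint k)) hcl ?_
  · rw [h1]
    exact Set.mem_univ _
  · refine subset_of_closedPoints _ (hZ.image _) hcl isOpen_locus fun y hy hyZ => ?_
    have h2 := h (pointOfClosedPoint q y hy) (pointOfClosedPoint_comp q y hy) (fun hmem =>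
      hyZ ⟨_, hmem, pointOfClosedPoint_apply _ _ _ _⟩)
    rw [← mem_locus_iff q π F hF hfl] at h2
    have e : pointOfClosedPoint q y hy (IsLocalRing.closedPoint k) = y :=
      pointOfClosedPoint_apply _ _ _ _
    exact e ▸ h2

end K512.FinSupp
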