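import Groth.Agent.CohqA.MV
import Groth.Agent.Flat2D.LocalGlobalH
import Groth.Agent.Ega3B.RpushAff
import Groth.Agent.Ega1.QcqsPush

/-!
# Opens over which all cohomology of a sheaf vanishes

`Acyc F U`: `H^n(U, F) = 0` for all `n` (including `n = 0`).
* `acyc_sup`, `acyc_left`: Mayer-Vietoris;
* `acyc_of_local`: for `f : X ⟶ Y` quasi-compact separated and `F` quasi-coherent, if every point of
  the open `V` of `Y` has an affine neighbourhood `W` with `Acyc F (f⁻¹ W)` then `Acyc F (f⁻¹ U)` for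
  every quasi-compact open `U ≤ V` (`Y` separated) .
-/

set_option autoImplicit false
universe u

open CategoryTheory CategoryTheory.Limits AlgebraicGeometry Opposite TopologicalSpace
open Groth.Agent Groth.Agent.CohqA

namespace K512.Acyc

section Top

variable {X : TopCat.{u}} (F : CohTop.Ab X)

set_option linter.dupNamespace false in
/-- All cohomology of `F` over `U` vanishes. -/
def Acyc (U : Opens X) : Prop := ∀ n, Subsingleton (CohTop.HU F n U)

variable {F}

theorem acyc_bot : Acyc F ⊥ := fun n => MV.subsingleton_bot F n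

/-- Cohomology in degree zero is the group of sections. -/
theorem hu0_iff (U : Opens X) :
    Subsingleton (CohTop.HU F 0 U) ↔ Subsingleton (F.obj.obj (op U)) :=
  (SheafH.H0 F U).toEquiv.subsingleton_congr

theorem sections_sup {U V : Opens X} (hU : Subsingleton (F.obj.obj (op U)))
    (hV : Subsingleton (F.obj.obj (op V))) : Subsingleton (F.obj.obj (op (U ⊔ V))) := by
  refine ⟨fun s t => ?_⟩
  refine TopCat.Sheaf.eq_of_locally_eq₂ F (homOfLE (le_sup_left : U ≤ U ⊔ V))
    (homOfLE (le_sup_right : V ≤ U ⊔ V)) le_rfl s t ?_ ?_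
  · exact Subsingleton.elim _ _
  · exact Subsingleton.elim _ _

theorem acyc_sup {U V : Opens X} (h : Acyc F (U ⊓ V)) (hU : Acyc F U) (hV : Acyc F V) :
    Acyc F (U ⊔ V) := by
  intro n
  cases n with
  | zero => exact (hu0_iff _).2 (sections_sup ((hu0_iff _).1 (hU 0)) ((hu0_iff _).1 (hV 0)))
  | succ n => exact MV.subsingleton_sup F U V n (h n) (hU _) (hV _)

theorem acyc_left {U V : Opens X} (h : Acyc F (U ⊓ V)) (h' : Acyc F (U ⊔ V)) : Acyc F U := by
  intro n
  have h1 := h n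
  have h2 := h' n
  refine subsingleton_of_forall_eq 0 fun a => ?_
  obtain ⟨c, hc, -⟩ := MV.exists_glue F U V n a 0 (Subsingleton.elim _ _)
  rw [← hc, Subsingleton.elim c 0, map_zero]

theorem acyc_right {U V : Opens X} (h : Acyc F (U ⊓ V)) (h' : Acyc F (U ⊔ V)) : Acyc F V := by
  rw [inf_comm] at h
  rw [sup_comm] at h'
  exact acyc_left h h'

end Top

section Scheme

variable {X Y : Scheme.{u}} (f : X ⟶ Y) (F : X.Modules)

/-- All cohomology of `F` over `f⁻¹ V` vanishes. -/
def AcycOver (V : Y.Opens) : Prop := Acyc (X := X.toTopCat) (Coh.toAb F) (f ⁻¹ᵁ V)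

variable {f F}

theorem acycOver_iff_HHon (V : Y.Opens) :
    AcycOver f F V ↔ ∀ n, Subsingleton (Coh.HHon X F (f ⁻¹ᵁ V) n) :=
  forall_congr' fun n => Flat2D.LocalGlobalH.HU_iff_HHon F _ n

theorem acycOver_top_iff : AcycOver f F ⊤ ↔ ∀ n, Subsingleton (Coh.HH X F n) :=
  forall_congr' fun n => Flat2D.LocalGlobalH.HU_top_iff F n

theorem acycOver_bot : AcycOver f F ⊥ := acyc_bot

theorem AcycOver.sup {U V : Y.Opens} (h : AcycOver f F (U ⊓ V)) (hU : AcycOver f F U)
    (hV : AcycOver f F V) : AcycOver f F (U ⊔ V) := by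
  have h1 : f ⁻¹ᵁ (U ⊔ V) = f ⁻¹ᵁ U ⊔ f ⁻¹ᵁ V := rfl
  exact acyc_sup (F := Coh.toAb F) (U := f ⁻¹ᵁ U) (V := f ⁻¹ᵁ V) h hU hV

theorem AcycOver.left {U V : Y.Opens} (h : AcycOver f F (U ⊓ V)) (h' : AcycOver f F (U ⊔ V)) :
    AcycOver f F U :=
  acyc_left (F := Coh.toAb F) (U := f ⁻¹ᵁ U) (V := f ⁻¹ᵁ V) h h'

theorem AcycOver.right {U V : Y.Opens} (h : AcycOver f F (U ⊓ V)) (h' : AcycOver f F (U ⊔ V)) :
    AcycOver f F V :=
  acyc_right (F := Coh.toAb F) (U := f ⁻¹ᵁ U) (V := f ⁻¹ᵁ V) h h'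

variable [QuasiCompact f] [IsSeparated f] (hF : Coh.IsQCoh F)

include hF

theorem AcycOver.of_le_affine {W W' : Y.Opens} (hW : IsAffineOpen W) (hW' : IsAffineOpen W')
    (h : W ≤ W') (hv : AcycOver f F W') : AcycOver f F W := by
  intro n
  cases n with
  | succ n => exact Flat2D.LocalGlobalH.HU_of_le f F hF n hW hW' h (hv _)
  | zero =>
    have h1 : Subsingleton Γ((Scheme.Modules.pushforward f).obj F, W') := (hu0_iff _).1 (hv 0)
    have h2 : Subsingleton Γ((Scheme.Modules.pushforward f).obj F, W) :=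
      Ega3B.RpushAff.subsingleton_of_le _ (Ega1.QcqsPush.isQCoh_pushforward f F hF) hW' h1 h
    exact (hu0_iff _).2 h2

theorem acycOver_of_local_affine (V : Y.Opens)
    (hV : ∀ y ∈ V, ∃ W : Y.Opens, IsAffineOpen W ∧ y ∈ W ∧ AcycOver f F W)
    (U : Y.Opens) (hU : IsAffineOpen U) (hUV : U ≤ V) : AcycOver f F U := by
  intro n
  cases n with
  | succ n =>
    refine Flat2D.LocalGlobalH.HU_of_local f F hF n V (fun y hy => ?_) U hU hUV
    obtain ⟨W, h1, h2, h3⟩ := hV y hy
    exact ⟨W, h1, h2, h3 _⟩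
  | zero =>
    refine (hu0_iff _).2 ?_
    change Subsingleton Γ((Scheme.Modules.pushforward f).obj F, U)
    refine subsingleton_of_forall_eq 0 fun s => ?_
    refine Ega3B.RpushAff.eq_zero_of_locally U s fun y hy => ?_
    obtain ⟨W, h1, h2, h3⟩ := hV y (hUV hy)
    refine ⟨U ⊓ W, inf_le_left, ⟨hy, h2⟩, ?_⟩
    have h4 : Subsingleton Γ((Scheme.Modules.pushforward f).obj F, W) := (hu0_iff _).1 (h3 0)
    have h5 : Subsingleton Γ((Scheme.Modules.pushforward f).obj F, U ⊓ W) :=
      Ega3B.RpushAff.subsingleton_of_le _ (Ega1.QcqsPush.isQCoh_pushforward f F hF) h1 h4 inf_le_right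
    exact Subsingleton.elim _ _

/-- If every point of `V` has an affine neighbourhood over which `F` is acyclic then `F` is acyclic
over every quasi-compact open of `V`. -/
theorem acycOver_of_local [Y.IsSeparated] (V : Y.Opens)
    (hV : ∀ y ∈ V, ∃ W : Y.Opens, IsAffineOpen W ∧ y ∈ W ∧ AcycOver f F W)
    (U : Y.Opens) (hU : IsCompact (U : Set Y)) (hUV : U ≤ V) : AcycOver f F U := by
  have key : U ≤ V → AcycOver f F U ∧ ∀ U' : Y.Opens, IsAffineOpen U' → AcycOver f F (U ⊓ U') := by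
    refine compact_open_induction_on (P := fun U => U ≤ V → AcycOver f F U ∧
      ∀ U' : Y.Opens, IsAffineOpen U' → AcycOver f F (U ⊓ U')) U hU ?_ ?_
    · intro _
      refine ⟨acycOver_bot, fun U' _ => ?_⟩
      rw [bot_inf_eq]
      exact acycOver_bot
    · intro S _ U1 ih hle
      have hS : S ≤ V := le_sup_left.trans hle
      have hU1 : (U1 : Y.Opens) ≤ V := le_sup_right.trans hle
      refine ⟨AcycOver.sup ((ih hS).2 _ U1.2) (ih hS).1
        (acycOver_of_local_affine hF V hV _ U1.2 hU1), fun U' hU' => ?_⟩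
      rw [inf_sup_right]
      have h1 : IsAffineOpen ((U1 : Y.Opens) ⊓ U') := U1.2.inf hU'
      refine AcycOver.sup ?_ ((ih hS).2 U' hU')
        (acycOver_of_local_affine hF V hV _ h1 (inf_le_left.trans hU1))
      have h2 : S ⊓ U' ⊓ ((U1 : Y.Opens) ⊓ U') = S ⊓ ((U1 : Y.Opens) ⊓ U') := by
        rw [inf_assoc, inf_left_comm U', inf_idem]
      rw [h2]
      exact (ih hS).2 _ h1
  exact (key hUV).1

end Scheme

end K512.Acyc
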