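import Groth.Agent.AbSch.K451.DetPic
import Groth.Agent.VBCurve.K707.Base
import Groth.Agent.ShStab.K848.TF
import Groth.Agent.VBPn.K700.PicVan
import Groth.Agent.Fga.TwistCoh

/-!
# Coherent modules on a regular curve invariant under twisting by an invertible module

* `pow_eq_one_of_iso` : `E` locally free of rank `r`, `E ⊗ L ≅ E` ⇒ `L ^ r` is trivial;
* `exists_pow_eq_one` : `X` integral with principal local rings, `M` coherent and generically nonzero: there is `r ≥ 1`
  with `L ^ r` trivial for every invertible `L` with `M ⊗ L ≅ M`.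
-/

set_option autoImplicit false
universe u

open CategoryTheory CategoryTheory.Limits AlgebraicGeometry
open Groth.Agent Groth.Agent.Grpsch K451.DetPic Groth.Agent.CycB.StalkExact K707.Base Groth.Agent.VarietyA.DegRank

namespace K512.DetTors

variable {X : Scheme.{u}}

theorem pow_eq_one_of_iso {r : ℕ} {E L : X.Modules} (hE : FlatMod.IsFinLocFreeOfRank r E)
    (hL : PicF.IsInvertible L) (e : CohB1.tensorMod E L ≅ E) : PicGrp.mk L hL ^ r = 1 := by
  have hL1 := rank_one_iff.2 hL
  have h1 := det_tensor hE hL1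
  rw [det_congr (rank_tensor hE hL1) hE (mul_one r) e, pow_one, det_one hL1 hL] at h1
  exact (mul_eq_left.1 h1.symm)

/-- A morphism from a generically zero module to a torsion free one vanishes. -/
theorem hom_eq_zero [IsIntegral X] {T V : X.Modules} (h0 : genericPoint X ∉ CohB1.support T)
    (hq : Coh.IsQCoh V) (hV : TorSh.IsTorsionFree V) (φ : T ⟶ V) : φ = 0 := by
  refine K848.TF.eq_zero_of_generic hq hV φ ?_
  have h1 : Subsingleton (T.presheaf.stalk (genericPoint X)) := by
    by_contra h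
    exact h0 h
  ext m
  rw [Subsingleton.elim m 0, map_zero, map_zero]

/-- The torsion free quotient is compatible with twisting. -/
theorem quot_iso [IsIntegral X] {S : ShortComplex X.Modules} (hS : S.ShortExact)
    (h0 : genericPoint X ∉ CohB1.support S.X₁) (h3 : FlatMod.IsFinLocFree S.X₃) {L : X.Modules}
    (hL : PicF.IsInvertible L) (e : CohB1.tensorMod S.X₂ L ≅ S.X₂) :
    Nonempty (CohB1.tensorMod S.X₃ L ≅ S.X₃) := by
  have h3r := isFinLocFreeOfRank_rk h3
  have h3L : FlatMod.IsFinLocFree (CohB1.tensorMod S.X₃ L) :=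
    K451.DetPic.isFinLocFree_of_rank (rank_tensor h3r (rank_one_iff.2 hL))
  have hSL := K700.PicVan.shortExact_tensor hS hL
  have k1 : genericPoint X ∉ CohB1.support (CohB1.tensorMod S.X₁ L) := fun h =>
    h0 (Fga.TwistCoh.support_tensor_subset hL h)
  have q1 : Coh.IsQCoh S.X₃ := isQCoh_of_rank h3r
  have q2 : Coh.IsQCoh (CohB1.tensorMod S.X₃ L) := isQCoh_of_rank (rank_tensor h3r (rank_one_iff.2 hL))
  have q1' : TorSh.IsTorsionFree S.X₃ := K707.Base.isTorsionFree_of_isFinLocFree h3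
  have q2' : TorSh.IsTorsionFree (CohB1.tensorMod S.X₃ L) := K707.Base.isTorsionFree_of_isFinLocFree h3L
  have ep : Epi S.g := hS.epi_g
  have epL : Epi (S.map (DCoh.tensorRightMod L)).g := hSL.epi_g
  let e' : (DCoh.tensorRightMod L).obj S.X₂ ≅ S.X₂ := e
  have epL' : Epi ((DCoh.tensorRightMod L).map S.g) := epL
  have w1 : (DCoh.tensorRightMod L).map S.f ≫ e'.hom ≫ S.g = 0 := hom_eq_zero k1 q1 q1' _
  have w2 : S.f ≫ e'.inv ≫ (DCoh.tensorRightMod L).map S.g = 0 := hom_eq_zero h0 q2 q2' _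
  obtain ⟨β, hβ⟩ : ∃ β : (DCoh.tensorRightMod L).obj S.X₃ ⟶ S.X₃,
      (DCoh.tensorRightMod L).map S.g ≫ β = e'.hom ≫ S.g := ⟨hSL.exact.desc _ w1, hSL.exact.g_desc _ w1⟩
  obtain ⟨γ, hγ⟩ : ∃ γ : S.X₃ ⟶ (DCoh.tensorRightMod L).obj S.X₃,
      S.g ≫ γ = e'.inv ≫ (DCoh.tensorRightMod L).map S.g := ⟨hS.exact.desc _ w2, hS.exact.g_desc _ w2⟩
  have r1 : β ≫ γ = 𝟙 _ := by
    rw [← cancel_epi ((DCoh.tensorRightMod L).map S.g), ← Category.assoc, hβ, Category.assoc, hγ,
      e'.hom_inv_id_assoc, Category.comp_id]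
  have r2 : γ ≫ β = 𝟙 _ := by
    rw [← cancel_epi S.g, ← Category.assoc, hγ, Category.assoc, hβ, e'.inv_hom_id_assoc, Category.comp_id]
  exact ⟨⟨β, γ, r1, r2⟩⟩

/-- **Twists fixing a coherent module on a regular curve are torsion of bounded order.** -/
theorem exists_pow_eq_one [IsIntegral X] [IsNoetherian X]
    (hP : ∀ x : X, IsPrincipalIdealRing (X.presheaf.stalk x)) {M : X.Modules} (hM : Coh.IsCoh M)
    (hη : genericPoint X ∈ CohB1.support M) :
    ∃ r : ℕ, 1 ≤ r ∧ ∀ (L : X.Modules) (hL : PicF.IsInvertible L),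
      Nonempty (CohB1.tensorMod M L ≅ M) → PicGrp.mk L hL ^ r = 1 := by
  obtain ⟨T, Q, i, p, w, hS, hT, hQ, h0, hQt⟩ := K707.Base.exists_torsion hM
  have hQr := K707.Base.isFinLocFreeOfRank_of_torsionFree hP hQ hQt
  refine ⟨rk Q, ?_, fun L hL ⟨e⟩ => ?_⟩
  · rw [Nat.one_le_iff_ne_zero]
    intro h
    rw [h] at hQr
    obtain ⟨b⟩ := K707.Base.exists_basis hQr (genericPoint X)
    have h1 : Subsingleton (Q.presheaf.stalk (genericPoint X)) := b.repr.toEquiv.subsingleton
    have h2 := stalkLin_exact _ hS.exact (genericPoint X)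
    have h3 : Subsingleton (M.presheaf.stalk (genericPoint X)) := by
      refine ⟨fun a b => ?_⟩
      have key : ∀ a : M.presheaf.stalk (genericPoint X), a = 0 := fun a => by
        obtain ⟨c, hc⟩ := (h2 a).1 (Subsingleton.elim _ _)
        rw [← hc, Subsingleton.elim c 0, map_zero]
      rw [key a, key b]
    exact hη h3
  · obtain ⟨e'⟩ := quot_iso hS (fun h => h h0)
      (K451.DetPic.isFinLocFree_of_rank hQr) hL e
    exact pow_eq_one_of_iso hQr hL e'

end K512.DetTors
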