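import Groth.Agent.PerfA.Restrict

/-!
# A module on a finite disjoint union of open subschemes is the product of its pieces
-/

set_option autoImplicit false
universe u v w

open CategoryTheory CategoryTheory.Limits AlgebraicGeometry Scheme.Modules

namespace K512.DisjDecomp

theorem isIso_lift_of_isZero {C : Type u} [Category.{v} C] {ι : Type w} {X : C} {Y : ι → C} [HasProduct Y]
    (f : ∀ i, X ⟶ Y i) (i₀ : ι) [IsIso (f i₀)] (h : ∀ i, i ≠ i₀ → IsZero (Y i)) : IsIso (Pi.lift f) := by
  refine ⟨Pi.π Y i₀ ≫ inv (f i₀), ?_, ?_⟩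
  · rw [Pi.lift_π_assoc, IsIso.hom_inv_id]
  · refine Pi.hom_ext _ _ fun i => ?_
    by_cases hi : i = i₀
    · subst hi
      rw [Category.assoc, Category.assoc, Pi.lift_π, IsIso.inv_hom_id, Category.comp_id, Category.id_comp]
    · exact (h i hi).eq_of_tgt _ _

section

variable {P : Scheme.{u}} {ι : Type w} [Finite ι] {U : ι → Scheme.{u}} (s : ∀ i, U i ⟶ P) [∀ i, IsOpenImmersion (s i)]

/-- The restriction of a module to a piece. -/
noncomputable abbrev piece (M : P.Modules) (i : ι) : P.Modules := (pushforward (s i)).obj ((restrictFunctor (s i)).obj M)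

omit [Finite ι] in
/-- The map to a piece. -/
noncomputable def un (M : P.Modules) (i : ι) : M ⟶ piece s M i := (restrictAdjunction (s i)).unit.app M

/-- The canonical map to the product of the pieces. -/
noncomputable def toProd (M : P.Modules) : M ⟶ ∏ᶜ piece s M := Pi.lift (un s M)

omit [Finite ι] in
theorem isIso_map_unit (i : ι) (M : P.Modules) : IsIso ((restrictFunctor (s i)).map (un s M i)) := by
  unfold un
  have h := (restrictAdjunction (s i)).left_triangle_components M
  exact IsIso.of_isIso_comp_right _ ((restrictAdjunction (s i)).counit.app ((restrictFunctor (s i)).obj M))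

theorem subsingleton_bot {X : Scheme.{u}} (M : X.Modules) {V : X.Opens} (hV : V = ⊥) : Subsingleton Γ(M, V) := by
  subst hV
  have h := TopCat.Presheaf.section_ext (⟨M.presheaf, M.isSheaf⟩ : TopCat.Sheaf Ab X) ⊥
  exact ⟨fun a b => h a b fun x hx => hx.elim⟩

theorem isZero_of_subsingleton {X : Scheme.{u}} {M : X.Modules}
    (h : ∀ V : X.Opens, Subsingleton Γ(M, V)) : IsZero M := by
  rw [IsZero.iff_id_eq_zero]
  ext V x
  exact (h V).elim _ _

omit [Finite ι] in
theorem isZero_map_piece (M : P.Modules) (i j : ι) (h : Disjoint (Set.range (s i)) (Set.range (s j))) :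
    IsZero ((restrictFunctor (s i)).obj (piece s M j)) := by
  refine isZero_of_subsingleton fun V => ?_
  refine subsingleton_bot ((restrictFunctor (s j)).obj M) (V := (s j) ⁻¹ᵁ ((s i) ''ᵁ V)) ?_
  rw [eq_bot_iff]
  intro x hx
  obtain ⟨y, hy, hy'⟩ := hx
  exact (Set.disjoint_left.1 h ⟨y, rfl⟩ ⟨x, hy'.symm⟩).elim

/-- **A module on a finite disjoint union of open subschemes is the product of its pieces.** -/
theorem isIso_toProd (hd : ∀ i j, i ≠ j → Disjoint (Set.range (s i)) (Set.range (s j)))
    (hc : ∀ p : P, ∃ i, p ∈ Set.range (s i)) (M : P.Modules) : IsIso (toProd s M) := by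
  refine Groth.Agent.PerfA.Restrict.isIso_of_restrict _ fun x => ?_
  obtain ⟨i, y, hy⟩ := hc x
  refine ⟨U i, s i, inferInstance, y, hy, ?_⟩
  have h0 := isIso_map_unit s i M
  have h1 : IsIso (Pi.lift fun j => (restrictFunctor (s i)).map (un s M j)) :=
    isIso_lift_of_isZero _ i fun j hj => isZero_map_piece s M i j (hd i j hj.symm)
  have h2 := map_lift_piComparison (restrictFunctor (s i)) (piece s M) M (un s M)
  rw [← h2] at h1
  have h3 : IsIso ((restrictFunctor (s i)).map (toProd s M) ≫ piComparison (restrictFunctor (s i)) (piece s M)) := h1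
  exact IsIso.of_isIso_comp_right _ (piComparison (restrictFunctor (s i)) (piece s M))

end

end K512.DisjDecomp
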