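import Groth.Agent.AbVar.K517.RHLes
import Groth.Agent.PerfC.RHomBnd556

/-!
# The cone of `RHom(M₂, L) ⟶ RHom(M₁, L)` for a short exact sequence of modules

`0 → M₁ → M₂ → M₃ → 0` exact, `RHom(M₃, L)` concentrated in degree `g`, `RHom(M₂, L)` concentrated in degree `0`: the cone
of `RHom(M₂, L) ⟶ RHom(M₁, L)` is `H^g(RHom(M₃, L))` in degree `g - 1`.
-/

set_option autoImplicit false
universe u v w
open CategoryTheory CategoryTheory.Limits AlgebraicGeometry Pretriangulated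
attribute [local instance] HasDerivedCategory.standard

namespace Groth.Agent.K512.RHCone

open Groth.Agent.PerfC.RHomD Groth.Agent.PerfC.RHomTri K517.RHLes

section abel

variable {𝒜 : Type u} [Category.{v} 𝒜] [Abelian 𝒜]

theorem nonempty_coker {X Y Z Z' : 𝒜} {a : X ⟶ Y} {p : Y ⟶ Z} {p' : Y ⟶ Z'} {w : a ≫ p = 0} {w' : a ≫ p' = 0}
    (h : (ShortComplex.mk a p w).Exact) (h' : (ShortComplex.mk a p' w').Exact) (hp : Epi p) (hp' : Epi p') :
    Nonempty (Z ≅ Z') := by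
  have h1 : Epi (ShortComplex.mk a p w).g := hp
  have h2 : Epi (ShortComplex.mk a p' w').g := hp'
  exact ⟨IsColimit.coconePointUniqueUpToIso h.gIsCokernel h'.gIsCokernel⟩

theorem nonempty_ker {X Y Z Z' : 𝒜} {a : Y ⟶ X} {p : Z ⟶ Y} {p' : Z' ⟶ Y} {w : p ≫ a = 0} {w' : p' ≫ a = 0}
    (h : (ShortComplex.mk p a w).Exact) (h' : (ShortComplex.mk p' a w').Exact) (hp : Mono p) (hp' : Mono p') :
    Nonempty (Z ≅ Z') := by
  have h1 : Mono (ShortComplex.mk p a w).f := hp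
  have h2 : Mono (ShortComplex.mk p' a w').f := hp'
  exact ⟨IsLimit.conePointUniqueUpToIso h.fIsKernel h'.fIsKernel⟩

/-- An object of the derived category with a single cohomology object. -/
theorem nonempty_single [HasDerivedCategory.{w} 𝒜] (C : DerivedCategory 𝒜) (n : ℤ)
    (h : ∀ p : ℤ, p ≠ n → IsZero ((DerivedCategory.homologyFunctor 𝒜 p).obj C)) (N : 𝒜)
    (e : (DerivedCategory.homologyFunctor 𝒜 n).obj C ≅ N) :
    Nonempty (C ≅ ((DerivedCategory.singleFunctor 𝒜 0).obj N)⟦(-n : ℤ)⟧) := by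
  have h1 : C.IsGE n := (DerivedCategory.isGE_iff C n).2 fun p hp => h p hp.ne
  have h2 : C.IsLE n := (DerivedCategory.isLE_iff C n).2 fun p hp => h p hp.ne'
  obtain ⟨M, ⟨f⟩⟩ := DerivedCategory.exists_iso_singleFunctor_obj_of_isGE_of_isLE C n
  let g1 : M ≅ N := ((DerivedCategory.homologyFunctor 𝒜 n).mapIso f ≪≫
      (DerivedCategory.singleFunctorCompHomologyFunctorIso 𝒜 n).app M).symm ≪≫ e
  exact ⟨f ≪≫ (DerivedCategory.singleFunctor 𝒜 n).mapIso g1 ≪≫
    (((DerivedCategory.singleFunctors 𝒜).shiftIso (-n) n 0 (by ring)).app N).symm⟩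

end abel

section cone

variable {X : Scheme.{u}} (S : ShortComplex X.Modules) (hS : S.ShortExact) (L : DCoh.D X) (N : X.Modules) (g : ℕ)

include hS in
theorem nonempty_cone
    (h3 : ∀ p : ℤ, p ≠ g → IsZero (DCoh.HD ((RH (DCoh.inD X S.X₃)).obj L) p))
    (e3 : DCoh.HD ((RH (DCoh.inD X S.X₃)).obj L) g ≅ N)
    (h2 : ∀ p : ℤ, p ≠ 0 → IsZero (DCoh.HD ((RH (DCoh.inD X S.X₂)).obj L) p))
    (h1 : IsZero (DCoh.HD ((RH (DCoh.inD X S.X₁)).obj L) (-1)))
    {C : DCoh.D X} (c : (RH (DCoh.inD X S.X₁)).obj L ⟶ C) (d : C ⟶ ((RH (DCoh.inD X S.X₂)).obj L)⟦(1 : ℤ)⟧)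
    (hT : Triangle.mk (rhMap hS.singleTriangle.mor₁ L) c d ∈ distTriang (DCoh.D X)) :
    Nonempty (C ≅ (DCoh.inD X N)⟦(-((g : ℤ) - 1) : ℤ)⟧) := by
  have hΔ : hS.singleTriangle ∈ distTriang (DCoh.D X) := hS.singleTriangle_distinguished
  -- the map on cohomology is injective in degrees `≠ g` and surjective in degrees `≠ g - 1`
  have E1 : ∀ p : ℤ, p ≠ g →
      Mono ((DerivedCategory.homologyFunctor X.Modules p).map (rhMap hS.singleTriangle.mor₁ L)) := by
    intro p hp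
    obtain ⟨f, g', w, -, hg, hex⟩ := exact_of_dist hS.singleTriangle hΔ L p
    rw [← hg]
    exact (ShortComplex.exact_iff_mono _ ((h3 p hp).eq_of_src _ _)).1 hex
  have E2 : ∀ p : ℤ, p + 1 ≠ g →
      Epi ((DerivedCategory.homologyFunctor X.Modules p).map (rhMap hS.singleTriangle.mor₁ L)) := by
    intro p hp
    obtain ⟨f, g', w, hf, -, hex⟩ := exact_of_dist hS.singleTriangle.invRotate (inv_rot_of_distTriang _ hΔ) L p
    obtain ⟨e⟩ := nonempty_HD_RH_shift (DCoh.inD X S.X₃) L (-1) p (p + 1) (by ring)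
    have h3' : IsZero (DCoh.HD ((RH ((DCoh.inD X S.X₃)⟦(-1 : ℤ)⟧)).obj L) p) := (h3 _ hp).of_iso e
    have he : Epi f := (ShortComplex.exact_iff_epi _ (h3'.eq_of_tgt _ _)).1 hex
    rw [hf] at he
    exact he
  have hz : ∀ p : ℤ, p ≠ (g : ℤ) - 1 → IsZero ((DerivedCategory.homologyFunctor X.Modules p).obj C) := by
    intro p hp
    have a1 := (DerivedCategory.HomologySequence.epi_homologyMap_mor₁_iff _ hT p).1 (E2 p (by omega))
    have a2 := (DerivedCategory.HomologySequence.mono_homologyMap_mor₁_iff _ hT p (p + 1) rfl).1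
      (E1 (p + 1) (by omega))
    exact (DerivedCategory.HomologySequence.exact₃ _ hT p (p + 1) rfl).isZero_of_both_zeros a1 a2
  have hg : Nonempty ((DerivedCategory.homologyFunctor X.Modules ((g : ℤ) - 1)).obj C ≅ N) := by
    by_cases h0 : g = 0
    · subst h0
      -- `H^{-1}(C)` and `H^0(RHom(M₃, L))` are the kernel of `H^0(b)`
      have b1 : Mono (DerivedCategory.HomologySequence.δ
          (Triangle.mk (rhMap hS.singleTriangle.mor₁ L) c d) (-1) 0 (by ring)) :=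
        (ShortComplex.exact_iff_mono _ (h1.eq_of_src _ _)).1
          (DerivedCategory.HomologySequence.exact₃ _ hT (-1) 0 (by ring))
      obtain ⟨f, g', w, hf, hg', hex⟩ := exact_of_dist hS.singleTriangle hΔ L 0
      subst hg'
      obtain ⟨f₁, g₁, w₁, -, hg₁, hex₁⟩ := exact_of_dist hS.singleTriangle.rotate (rot_of_distTriang _ hΔ) L 0
      obtain ⟨e⟩ := nonempty_HD_RH_shift (DCoh.inD X S.X₁) L 1 0 (-1) (by ring)
      have h4 : IsZero (DCoh.HD ((RH ((DCoh.inD X S.X₁)⟦(1 : ℤ)⟧)).obj L) 0) := h1.of_iso e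
      have b2 : Mono g₁ := (ShortComplex.exact_iff_mono _ (h4.eq_of_src _ _)).1 hex₁
      have b3 : f = g₁ := hf.trans hg₁.symm
      rw [← b3] at b2
      obtain ⟨e1⟩ := nonempty_ker (DerivedCategory.HomologySequence.exact₁ _ hT (-1) 0 (by ring)) hex b1 b2
      exact ⟨e1 ≪≫ e3⟩
    · -- `H^{g-1}(C)` and `H^g(RHom(M₃, L))` are the cokernel of `H^{g-1}(b)`
      have b1 : DerivedCategory.HomologySequence.δ
          (Triangle.mk (rhMap hS.singleTriangle.mor₁ L) c d) ((g : ℤ) - 1) g (by ring) = 0 :=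
        (h2 g (by simpa using h0)).eq_of_tgt _ _
      have b2 := (DerivedCategory.HomologySequence.epi_homologyMap_mor₂_iff _ hT ((g : ℤ) - 1) g (by ring)).2 b1
      obtain ⟨f, g', w, hf, hg', hex⟩ := exact_of_dist hS.singleTriangle.invRotate
        (inv_rot_of_distTriang _ hΔ) L ((g : ℤ) - 1)
      obtain ⟨f₁, g₁, w₁, hf₁, -, hex₁⟩ := exact_of_dist hS.singleTriangle.invRotate.invRotate
        (inv_rot_of_distTriang _ (inv_rot_of_distTriang _ hΔ)) L ((g : ℤ) - 1)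
      obtain ⟨e⟩ := nonempty_HD_RH_shift (DCoh.inD X S.X₃) L (-1) ((g : ℤ) - 1) g (by ring)
      obtain ⟨e'⟩ := nonempty_HD_RH_shift (DCoh.inD X S.X₂) L (-1) ((g : ℤ) - 1) g (by ring)
      have h4 : IsZero (DCoh.HD ((RH ((DCoh.inD X S.X₂)⟦(-1 : ℤ)⟧)).obj L) ((g : ℤ) - 1)) :=
        (h2 g (by simpa using h0)).of_iso e'
      have b3 : Epi f₁ := (ShortComplex.exact_iff_epi _ (h4.eq_of_tgt _ _)).1 hex₁
      have b4 : f₁ = g' := hf₁.trans hg'.symm
      rw [b4] at b3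
      subst hf
      obtain ⟨e1⟩ := nonempty_coker (DerivedCategory.HomologySequence.exact₂ _ hT ((g : ℤ) - 1)) hex b2 b3
      exact ⟨e1 ≪≫ e ≪≫ e3⟩
  obtain ⟨e⟩ := hg
  exact nonempty_single C _ hz N e

end cone

end Groth.Agent.K512.RHCone
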