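import Groth.Agent.DEquiv.K353.Calc
import Groth.Agent.PerfC.RHomShift

/-!
# `RHom(Rf_* O, L) ⟶ RHom(O, L)` is non-zero as soon as `Hom(Rf_* Z, L)` is, for some `Z`
-/

set_option autoImplicit false
universe u v w
open CategoryTheory CategoryTheory.Limits AlgebraicGeometry MonoidalCategory
attribute [local instance] HasDerivedCategory.standard
open scoped Groth.Agent.Dcoh.MonCat Groth.Agent.Dcoh.ModD

namespace Groth.Agent.K512.RHUnit

open Groth.Agent Groth.Agent.Dcoh Groth.Agent.PerfC.RHomD Groth.Agent.PerfC.RHomTri Groth.Agent.Dual.H379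
  Groth.Agent.PerfC.DTens

section mon

variable {C D : Type*} [Category C] [Category D] [MonoidalCategory C] [MonoidalCategory D]

/-- For a lax monoidal functor `G`, the morphism `G(Z) ⊗ ε` is a split monomorphism. -/
theorem isSplitMono_whiskerLeft_ε (G : D ⥤ C) [G.LaxMonoidal] (Z : D) :
    ∃ r : G.obj Z ⊗ G.obj (𝟙_ D) ⟶ G.obj Z ⊗ 𝟙_ C, (G.obj Z ◁ Functor.LaxMonoidal.ε G) ≫ r = 𝟙 _ := by
  refine ⟨Functor.LaxMonoidal.μ G Z (𝟙_ D) ≫ G.map (ρ_ Z).hom ≫ (ρ_ (G.obj Z)).inv, ?_⟩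
  rw [← Category.assoc, ← Category.assoc, Iso.comp_inv_eq, Category.id_comp, Category.assoc]
  exact (Functor.LaxMonoidal.right_unitality G Z).symm

/-- The unit `ε` of the right adjoint of a monoidal functor: `G(Z) ⊗ ε` is a split monomorphism, and `ε ≠ 0`. -/
theorem exists_ε [Preadditive C] [Preadditive D] {F : C ⥤ D} {G : D ⥤ C} (adj : F ⊣ G) [F.Monoidal] [F.Additive] :
    ∃ ε : 𝟙_ C ⟶ G.obj (𝟙_ D), (∀ Z : D, ∃ r : G.obj Z ⊗ G.obj (𝟙_ D) ⟶ G.obj Z ⊗ 𝟙_ C,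
      (G.obj Z ◁ ε) ≫ r = 𝟙 _) ∧ (ε = 0 → 𝟙 (𝟙_ D) = 0) := by
  letI := adj.rightAdjointLaxMonoidal
  refine ⟨Functor.LaxMonoidal.ε G, isSplitMono_whiskerLeft_ε G, fun h => ?_⟩
  have h1 : adj.homEquiv _ _ (Functor.OplaxMonoidal.η F) = 0 := h
  have h2 : Functor.OplaxMonoidal.η F = 0 := by
    have h3 := congrArg (adj.homEquiv _ _).symm h1
    rw [Equiv.symm_apply_apply] at h3
    rw [h3, Adjunction.homEquiv_counit, F.map_zero, zero_comp]
  rw [← Functor.Monoidal.ε_η F, h2, comp_zero]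

end mon

variable {X Y : Scheme.{u}}

/-- `M ⊗ φ` is a split monomorphism for the derived tensor product iff it is one for the monoidal structure. -/
theorem exists_retraction {U V : DCoh.D X} (M : DCoh.D X) (φ : U ⟶ V) (h : ∃ r : M ⊗ V ⟶ M ⊗ U, (M ◁ φ) ≫ r = 𝟙 _) :
    ∃ r : ((LTX X).flip.obj V).obj M ⟶ ((LTX X).flip.obj U).obj M, ((LTX X).flip.map φ).app M ≫ r = 𝟙 _ := by
  obtain ⟨e⟩ := PerfDual.nonempty_objIso M
  obtain ⟨r, hr⟩ := h
  have h1 : ((LTX X).flip.map φ).app M = e.hom.app U ≫ (M ◁ φ) ≫ e.inv.app V := by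
    have h2 : ((LTX X).obj M).map φ ≫ e.hom.app V = e.hom.app U ≫ (M ◁ φ) := e.hom.naturality φ
    rw [← Category.assoc, ← h2, Category.assoc, Iso.hom_inv_id_app, Category.comp_id]
    rfl
  refine ⟨e.hom.app V ≫ r ≫ e.inv.app U, ?_⟩
  rw [h1, Category.assoc, Category.assoc, Iso.inv_hom_id_app_assoc, reassoc_of% hr, Iso.hom_inv_id_app]
  rfl

/-- If `M ⊗ φ` is a split monomorphism and `RHom(φ, L) = 0` then `Hom(M ⊗ U, L) = 0`. -/
theorem eq_zero_of_rhMap {U V M L : DCoh.D X} (φ : U ⟶ V)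
    (h : ∃ r : ((LTX X).flip.obj V).obj M ⟶ ((LTX X).flip.obj U).obj M, ((LTX X).flip.map φ).app M ≫ r = 𝟙 _)
    (h0 : rhMap φ L = 0) (f : ((LTX X).flip.obj U).obj M ⟶ L) : f = 0 := by
  obtain ⟨r, hr⟩ := h
  have h1 := comp_ρ (LTX X).flip RH rhAdj φ ((rhAdj V).homEquiv M L (r ≫ f))
  have h2 : ρ (LTX X).flip RH rhAdj φ L = 0 := h0
  rw [h2, comp_zero, Equiv.symm_apply_apply, ← Category.assoc, hr, Category.id_comp] at h1
  have h3 : ((LTX X).flip.obj U).Additive := additive_LTX_flip U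
  have h4 := congrArg ((rhAdj U).homEquiv M L).symm h1
  rw [Equiv.symm_apply_apply, Adjunction.homEquiv_counit, Functor.map_zero, zero_comp] at h4
  exact h4.symm

end Groth.Agent.K512.RHUnit
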