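import Groth.Agent.AbVar.K512.SkyHom
import Groth.Agent.AbVar.K512.RHCone
import Groth.Agent.AbVar.K512.RHUnit
import Groth.Agent.AbVar.K517.ExtPoint
import Groth.Agent.PerfC.RpushCoh
import Groth.Agent.KSix.K242.QCohKit

/-!
# The derived dual of the ideal sheaf of the unit point

`G` a smooth separated integral group scheme over a field, of dimension `g`, `I₀` the ideal sheaf of the unit point:
there is a distinguished triangle `O ⟶ I₀^∨ ⟶ k(0)[1 - g] ⟶ O[1]` whose last morphism is non-zero.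
-/

set_option autoImplicit false
universe u v w
open CategoryTheory CategoryTheory.Limits AlgebraicGeometry MonoidalCategory CartesianMonoidalCategory MonObj Pretriangulated
attribute [local instance] HasDerivedCategory.standard
open scoped Groth.Agent.Dcoh.MonCat Groth.Agent.Dcoh.ModD

namespace Groth.Agent.K512.DualSky

open Groth.Agent Groth.Agent.Dcoh Groth.Agent.PerfC.RHomD Groth.Agent.PerfC.RHomTri Groth.Agent.Dual.H379
  Groth.Agent.PerfC.DTens Groth.Agent.PerfC.RHomShift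

/-- `O_X`, placed in degree zero. -/
noncomputable abbrev OD (X : Scheme.{u}) : DCoh.D X := DCoh.inD X (Coh.structureModule X)

/-- `e_* O_Z`, placed in degree zero. -/
noncomputable abbrev skyD {X Z : Scheme.{u}} (e : Z ⟶ X) : DCoh.D X :=
  DCoh.inD X ((Scheme.Modules.pushforward e).obj (Coh.structureModule Z))

/-- `O_X ⟶ e_* O_Z`, placed in degree zero. -/
noncomputable abbrev uD {X Z : Scheme.{u}} (e : Z ⟶ X) : OD X ⟶ skyD e :=
  (DerivedCategory.singleFunctor X.Modules 0).map (ClSub.unitToPush e)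

theorem whisker_retraction {C : Type*} [Category C] [MonoidalCategory C] {M A A' B B' : C} (a : A ≅ A') (b : B' ≅ B)
    (ε : A' ⟶ B') (h : ∃ r : M ⊗ B' ⟶ M ⊗ A', (M ◁ ε) ≫ r = 𝟙 _) {φ : A ⟶ B} (hφ : φ = a.hom ≫ ε ≫ b.hom) :
    ∃ r : M ⊗ B ⟶ M ⊗ A, (M ◁ φ) ≫ r = 𝟙 _ := by
  obtain ⟨r, hr⟩ := h
  refine ⟨(M ◁ b.inv) ≫ r ≫ (M ◁ a.inv), ?_⟩
  rw [hφ, MonoidalCategory.whiskerLeft_comp, MonoidalCategory.whiskerLeft_comp, Category.assoc, Category.assoc,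
    MonoidalCategory.whiskerLeft_hom_inv_assoc, reassoc_of% hr, MonoidalCategory.whiskerLeft_hom_inv]

section sky

variable {X Z : Scheme.{u}} (e : Z ⟶ X)

theorem unitToPush_ne_zero (hZ : IsField Γ(Z, ⊤)) : ClSub.unitToPush e ≠ 0 := by
  intro h
  have h1 : Groth.Agent.Fdesc.LocGen.sec (ClSub.unitToPush e) ⊤ = 0 := by rw [h]; rfl
  have h2 : (1 : Γ(Z, ⊤)) = 0 := (map_one (e.app ⊤).hom).symm.trans h1
  obtain ⟨x, y, hxy⟩ := hZ.exists_pair_ne
  exact hxy (by rw [← mul_one x, ← mul_one y, h2, mul_zero, mul_zero])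

theorem uD_ne_zero (hZ : IsField Γ(Z, ⊤)) : uD e ≠ 0 := by
  intro h
  exact unitToPush_ne_zero e hZ
    ((DerivedCategory.singleFunctor X.Modules 0).map_injective (h.trans (Functor.map_zero _ _ _).symm))

/-- Non-zero morphisms `O_X ⟶ e_* O_Z` in the derived category. -/
theorem exists_iso (hZ : IsField Γ(Z, ⊤)) (f : OD X ⟶ skyD e) (hf : f ≠ 0) :
    ∃ w : skyD e ≅ skyD e, f = uD e ≫ w.hom := by
  obtain ⟨f', rfl⟩ := (DerivedCategory.singleFunctor X.Modules 0).map_surjective f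
  have h : f' ≠ 0 := by
    rintro rfl
    exact hf (Functor.map_zero _ _ _)
  obtain ⟨w, rfl⟩ := SkyHom.exists_iso e hZ f' h
  exact ⟨(DerivedCategory.singleFunctor X.Modules 0).mapIso w, Functor.map_comp _ _ _⟩

theorem unit_ne_zero (hZ : IsField Γ(Z, ⊤)) : 𝟙 (𝟙_ (DCoh.D Z)) ≠ 0 := by
  intro h
  apply uD_ne_zero (𝟙 Z) hZ
  have h1 : IsZero (𝟙_ (DCoh.D Z)) := (IsZero.iff_id_eq_zero _).2 h
  exact (h1.of_iso (DualX.unitIso Z)).eq_of_src _ _

/-- `Re_*(K) ⊗ u` is a split monomorphism, for `u : O_X ⟶ e_* O_Z`. -/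
theorem exists_retraction [IsClosedImmersion e] (hZ : IsField Γ(Z, ⊤)) [DCoh.HasRpush e] (K : DCoh.D Z) :
    ∃ r : (DCoh.Rpush e).obj K ⊗ skyD e ⟶ (DCoh.Rpush e).obj K ⊗ OD X,
      ((DCoh.Rpush e).obj K ◁ uD e) ≫ r = 𝟙 _ := by
  have h1 : DCoh.HasLpull e := K353.Calc.hasLpull e
  let m := DQMon.lpullMon e
  have h2 : (DCoh.Lpull e).Additive := (K242.QCohKit.isTriang_Lpull e).additive
  obtain ⟨ε, hε, hε0⟩ := RHUnit.exists_ε (DerPull.lpullAdj e)
  obtain ⟨b⟩ := PerfC.RpushCoh.nonempty_closed e (Coh.structureModule Z)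
  let b' : (DCoh.Rpush e).obj (𝟙_ (DCoh.D Z)) ≅ skyD e :=
    (DCoh.Rpush e).mapIso (DualX.unitIso Z).symm ≪≫ b
  let a : OD X ≅ 𝟙_ (DCoh.D X) := DualX.unitIso X
  have h3 : a.hom ≫ ε ≫ b'.hom ≠ 0 := by
    intro h
    apply unit_ne_zero hZ
    apply hε0
    have h4 : ε = a.inv ≫ (a.hom ≫ ε ≫ b'.hom) ≫ b'.inv := by simp
    rw [h4, h, zero_comp, comp_zero]
  obtain ⟨w, hw⟩ := exists_iso e hZ _ h3
  have h5 : uD e = a.hom ≫ ε ≫ b'.hom ≫ w.inv := by
    rw [← Category.assoc, ← Category.assoc, Iso.eq_comp_inv, Category.assoc]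
    exact hw.symm
  exact whisker_retraction a (b' ≪≫ w.symm) ε (hε K) h5

end sky

section hom

variable {X : Scheme.{u}} {L : DCoh.D X}

theorem exists_hom (M : DCoh.D X) (h : ∃ f : 𝟙_ (DCoh.D X) ⟶ (RH M).obj L, f ≠ 0) :
    ∃ f : ((LTX X).flip.obj (OD X)).obj M ⟶ L, f ≠ 0 := by
  obtain ⟨f, hf⟩ := h
  obtain ⟨e1⟩ := PerfDual.nonempty_flipIso M
  obtain ⟨e2⟩ := PerfDual.nonempty_flipIso (OD X)
  let a : ((LTX X).flip.obj (OD X)).obj M ≅ ((LTX X).flip.obj M).obj (𝟙_ (DCoh.D X)) :=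
    e2.app M ≪≫ whiskerLeftIso M (DualX.unitIso X) ≪≫ ρ_ M ≪≫ (λ_ M).symm ≪≫ (e1.app _).symm
  refine ⟨a.hom ≫ ((rhAdj M).homEquiv _ _).symm f, fun h => hf ?_⟩
  have h1 : ((rhAdj M).homEquiv _ _).symm f = 0 := by
    rw [← cancel_epi a.hom, h, comp_zero]
  have h2 : ((LTX X).flip.obj M).Additive := additive_LTX_flip M
  have h3 := congrArg ((rhAdj M).homEquiv _ _) h1
  rw [Equiv.apply_symm_apply] at h3
  exact h3.trans ((rhAdj M).homAddEquiv_zero _ _)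

end hom

section grp

variable {k : Type u} [Field k] (G : Over (Spec (CommRingCat.of k))) [GrpObj G] [IsSeparated G.hom]
  [Smooth G.hom] [IsIntegral G.left] (g : ℕ) (hg : topologicalKrullDim ↥G.left = g)

include hg in
/-- `RHom(k(0), O) ≅ k(0)[-g]`. -/
theorem nonempty_dual : Nonempty ((RH (skyD η[G].left)).obj (OD G.left) ≅ (skyD η[G].left)⟦(-(g : ℤ))⟧) := by
  obtain ⟨h1, ⟨h2⟩⟩ := K517.ExtPoint.main G g hg
  exact RHCone.nonempty_single _ _ h1 _ h2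

include hg in
/-- `RHom(k(0)[-g], O) ≅ k(0)`. -/
theorem nonempty_dual_shift (M : DCoh.D G.left) (e : M ≅ (skyD η[G].left)⟦(-(g : ℤ))⟧) :
    Nonempty ((RH M).obj (OD G.left) ≅ skyD η[G].left) := by
  obtain ⟨e1⟩ := nonempty_rhShift (skyD η[G].left) (OD G.left) (-(g : ℤ))
  obtain ⟨e2⟩ := K517.RHLes.nonempty_RH_shift (skyD η[G].left) (OD G.left) (-(-(g : ℤ)))
  obtain ⟨e3⟩ := nonempty_dual G g hg
  exact ⟨rhIso e.symm (OD G.left) ≪≫ e1 ≪≫ e2 ≪≫ (shiftFunctor (DCoh.D G.left) (-(-(g : ℤ)))).mapIso e3 ≪≫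
    (shiftFunctorCompIsoId (DCoh.D G.left) (-(g : ℤ)) (-(-(g : ℤ))) (by ring)).app _⟩

include hg in
/-- `RHom(k(0), O) ⟶ RHom(O, O)` is non-zero. -/
theorem rhMap_uD_ne_zero : rhMap (uD η[G].left) (OD G.left) ≠ 0 := by
  intro h0
  have hR : DCoh.HasRpush η[G].left := K353.Calc.hasRpush _
  have hk : IsField Γ(Spec (CommRingCat.of k), ⊤) := SkyHom.isField_spec k
  obtain ⟨c1, c2⟩ := K242.QCohKit.isTriang_Rpush η[G].left
  obtain ⟨b⟩ := PerfC.RpushCoh.nonempty_closed η[G].left (Coh.structureModule (Spec (CommRingCat.of k)))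
  let Z : DCoh.D (Spec (CommRingCat.of k)) := (OD (Spec (CommRingCat.of k)))⟦(-(g : ℤ))⟧
  let e : (DCoh.Rpush η[G].left).obj Z ≅ (skyD η[G].left)⟦(-(g : ℤ))⟧ :=
    ((DCoh.Rpush η[G].left).commShiftIso (-(g : ℤ))).app _ ≪≫ (shiftFunctor _ (-(g : ℤ))).mapIso b
  obtain ⟨e'⟩ := nonempty_dual_shift G g hg _ e
  obtain ⟨f, hf⟩ := exists_hom ((DCoh.Rpush η[G].left).obj Z)
    ⟨(DualX.unitIso G.left).inv ≫ uD η[G].left ≫ e'.inv, fun h => uD_ne_zero η[G].left hk (by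
      rw [Preadditive.IsIso.comp_left_eq_zero] at h
      rw [← cancel_mono e'.inv, h, zero_comp])⟩
  exact hf (RHUnit.eq_zero_of_rhMap (uD η[G].left)
    (RHUnit.exists_retraction _ _ (exists_retraction η[G].left hk Z)) h0 f)

/-- `0 → I₀ → O → k(0) → 0`. -/
noncomputable abbrev sesE {X Z : Scheme.{u}} (e : Z ⟶ X) : ShortComplex X.Modules :=
  ShortComplex.mk (kernel.ι (ClSub.unitToPush e)) (ClSub.unitToPush e) (kernel.condition _)

theorem shortExact_sesE {X Z : Scheme.{u}} (e : Z ⟶ X) [IsClosedImmersion e] : (sesE e).ShortExact where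
  exact := ShortComplex.exact_kernel _
  mono_f := inferInstanceAs (Mono (kernel.ι (ClSub.unitToPush e)))
  epi_g := SkyHom.epi_unitToPush e

include hg in
/-- The triangle `O ⟶ I₀^∨ ⟶ k(0)[1 - g] ⟶ O[1]`. -/
theorem exists_triangle : ∃ T ∈ distTriang (DCoh.D G.left), T.mor₃ ≠ 0 ∧ Nonempty (T.obj₁ ≅ OD G.left) ∧
    Nonempty (T.obj₂ ≅ (RH (DCoh.inD G.left (kernel (ClSub.unitToPush η[G].left)))).obj (OD G.left)) ∧
    Nonempty (T.obj₃ ≅ (skyD η[G].left)⟦(-((g : ℤ) - 1) : ℤ)⟧) := by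
  have hS := shortExact_sesE η[G].left
  obtain ⟨C, c, d, hT⟩ := distinguished_cocone_triangle (rhMap hS.singleTriangle.mor₁ (OD G.left))
  obtain ⟨h1, ⟨h2⟩⟩ := K517.ExtPoint.main G g hg
  have h3 : IsZero (DCoh.HD ((RH (DCoh.inD G.left (sesE η[G].left).X₁)).obj (OD G.left)) (-1)) := by
    have h4 := Groth.Agent.PerfC.RHomBnd556.isGE_RH (DCoh.inD G.left (sesE η[G].left).X₁) (OD G.left) 0 0
    exact DerivedCategory.isZero_of_isGE _ (0 - 0) (-1) (by norm_num)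
  obtain ⟨eC⟩ := RHCone.nonempty_cone (sesE η[G].left) hS (OD G.left)
    ((Scheme.Modules.pushforward η[G].left).obj (Coh.structureModule (Spec (CommRingCat.of k)))) g h1 h2
    (K517.RHLes.isZero_HD_unit _) h3 c d hT
  obtain ⟨e1⟩ := nonempty_rhUnit (OD G.left)
  refine ⟨_, hT, fun h => ?_, ⟨e1⟩, ⟨Iso.refl _⟩, ⟨eC⟩⟩
  have h5 : Mono (ρ (LTX G.left).flip RH rhAdj hS.singleTriangle.mor₁ (OD G.left)) :=
    (Triangle.mor₃_eq_zero_iff_mono₁ _ hT).1 h
  have h6 : ρ (LTX G.left).flip RH rhAdj hS.singleTriangle.mor₂ (OD G.left) ≫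
      ρ (LTX G.left).flip RH rhAdj hS.singleTriangle.mor₁ (OD G.left) = 0 :=
    ρ_comp_zero (LTX G.left).flip RH rhAdj (fun M => isTriang_LTX_obj M) _ hS.singleTriangle_distinguished
      additive_LTX_flip _
  exact rhMap_uD_ne_zero G g hg (h5.right_cancellation _ _ (h6.trans zero_comp.symm))

end grp

end Groth.Agent.K512.DualSky
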