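import Groth.Agent.AbVar.K512.FMSky

/-!
# The Fourier–Mukai transform of the dual of the ideal sheaf of the unit point
-/

set_option autoImplicit false
universe u v w
open CategoryTheory CategoryTheory.Limits AlgebraicGeometry MonoidalCategory CartesianMonoidalCategory MonObj Pretriangulated
attribute [local instance] HasDerivedCategory.standard

namespace Groth.Agent.K512.FMDual

open Groth.Agent Groth.Agent.Dcoh Groth.Agent.PerfC.IsoLocus Groth.Agent.K512.DualSky K353.Calc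

section tri

variable {C : Type u} [Category.{v} C] [HasZeroObject C] [HasShift C ℤ] [Preadditive C]
  [∀ n : ℤ, (shiftFunctor C n).Additive] [Pretriangulated C]

/-- The first object of a distinguished triangle depends only on the second morphism. -/
theorem nonempty_obj₁ (T T' : Triangle C) (hT : T ∈ distTriang C) (hT' : T' ∈ distTriang C)
    (a : T.obj₂ ≅ T'.obj₂) (b : T.obj₃ ≅ T'.obj₃) (h : T.mor₂ ≫ b.hom = a.hom ≫ T'.mor₂) :
    Nonempty (T.obj₁ ≅ T'.obj₁) := by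
  let e := isoTriangleOfIso₁₂ T.rotate T'.rotate (rot_of_distTriang _ hT) (rot_of_distTriang _ hT') a b h
  exact ⟨(shiftFunctor C (1 : ℤ)).preimageIso (Triangle.π₃.mapIso e)⟩

end tri

section sky

variable {X Z : Scheme.{u}} (e : Z ⟶ X)

theorem exists_iso_shift (hZ : IsField Γ(Z, ⊤)) (n : ℤ) (f f' : (OD X)⟦n⟧ ⟶ (skyD e)⟦n⟧) (hf : f ≠ 0)
    (hf' : f' ≠ 0) : ∃ w : (skyD e)⟦n⟧ ≅ (skyD e)⟦n⟧, f' = f ≫ w.hom := by
  obtain ⟨x, rfl⟩ := (shiftFunctor (DCoh.D X) n).map_surjective f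
  obtain ⟨x', rfl⟩ := (shiftFunctor (DCoh.D X) n).map_surjective f'
  have h1 : x ≠ 0 := by
    rintro rfl
    exact hf (Functor.map_zero _ _ _)
  have h2 : x' ≠ 0 := by
    rintro rfl
    exact hf' (Functor.map_zero _ _ _)
  obtain ⟨w, rfl⟩ := exists_iso e hZ x h1
  obtain ⟨w', rfl⟩ := exists_iso e hZ x' h2
  refine ⟨(shiftFunctor (DCoh.D X) n).mapIso (w.symm ≪≫ w'), ?_⟩
  rw [Functor.mapIso_hom, ← Functor.map_comp, Iso.trans_hom, Iso.symm_hom, Category.assoc, Iso.hom_inv_id_assoc]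

end sky

section main

variable {X Y Z Z' : Scheme.{u}} (e : Z ⟶ X) (e' : Z' ⟶ Y) [IsClosedImmersion e']

/-- A triangulated functor with `Φ(O_X) ≅ k(e')[-g]` and `Φ(k(e)) ≅ O_Y` sends a triangle
`O_X ⟶ K ⟶ k(e)[1 - g] ⟶ O_X[1]` with `Φ(∂) ≠ 0` to one with `Φ(K) ≅ I_{e'}[1 - g]`. -/
theorem nonempty_iso (hZ' : IsField Γ(Z', ⊤)) {Φ : DCoh.D X ⥤ DCoh.D Y} (hΦ : IsTriang Φ) (g : ℕ)
    (h1 : Nonempty (Φ.obj (OD X) ≅ (skyD e')⟦(-(g : ℤ))⟧)) (h2 : Nonempty (Φ.obj (skyD e) ≅ OD Y))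
    (T : Triangle (DCoh.D X)) (hT : T ∈ distTriang (DCoh.D X)) (h0 : Φ.map T.mor₃ ≠ 0)
    (e1 : T.obj₁ ≅ OD X) (e3 : T.obj₃ ≅ (skyD e)⟦(-((g : ℤ) - 1) : ℤ)⟧) :
    Nonempty (Φ.obj T.obj₂ ≅ (DCoh.inD Y (kernel (ClSub.unitToPush e')))⟦(-((g : ℤ) - 1) : ℤ)⟧) := by
  obtain ⟨_, _⟩ := hΦ
  obtain ⟨h1⟩ := h1
  obtain ⟨h2⟩ := h2
  have hS := shortExact_sesE e'
  set n : ℤ := -((g : ℤ) - 1) with hn
  let T1 := (Φ.mapTriangle.obj T).rotate
  have hT1 : T1 ∈ distTriang (DCoh.D Y) := rot_of_distTriang _ (Φ.map_distinguished T hT)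
  let T2 := (Triangle.shiftFunctor (DCoh.D Y) n).obj hS.singleTriangle
  have hT2 : T2 ∈ distTriang (DCoh.D Y) := Triangle.shift_distinguished _ hS.singleTriangle_distinguished n
  let a : T1.obj₂ ≅ (OD Y)⟦n⟧ := Φ.mapIso e3 ≪≫ (Φ.commShiftIso n).app _ ≪≫ (shiftFunctor (DCoh.D Y) n).mapIso h2
  let b : T1.obj₃ ≅ (skyD e')⟦n⟧ := (shiftFunctor (DCoh.D Y) (1 : ℤ)).mapIso (Φ.mapIso e1 ≪≫ h1) ≪≫
    ((shiftFunctorAdd' (DCoh.D Y) (-(g : ℤ)) 1 n (by omega)).app (skyD e')).symm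
  have hx : a.inv ≫ T1.mor₂ ≫ b.hom ≠ 0 := by
    intro h
    have h3 : T1.mor₂ = 0 := by
      rw [← cancel_epi a.inv, ← cancel_mono b.hom, Category.assoc, h, comp_zero, zero_comp]
    have h4 : Φ.map T.mor₃ ≫ (Φ.commShiftIso (1 : ℤ)).hom.app T.obj₁ = 0 := h3
    apply h0
    rw [← cancel_mono ((Φ.commShiftIso (1 : ℤ)).hom.app T.obj₁), h4, zero_comp]
  let m2 : (OD Y)⟦n⟧ ⟶ (skyD e')⟦n⟧ := n.negOnePow • (shiftFunctor (DCoh.D Y) n).map (uD e')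
  have hy : m2 ≠ 0 := by
    refine (smul_ne_zero_iff_ne _).2 fun h => uD_ne_zero e' hZ' ?_
    exact (shiftFunctor (DCoh.D Y) n).map_injective (h.trans (Functor.map_zero _ _ _).symm)
  obtain ⟨w, hw⟩ := exists_iso_shift e' hZ' n (a.inv ≫ T1.mor₂ ≫ b.hom) m2 hx hy
  have h5 : T1.mor₂ ≫ (b ≪≫ w).hom = a.hom ≫ m2 := by
    rw [hw, Iso.trans_hom, Category.assoc, Category.assoc, Iso.hom_inv_id_assoc]
  exact nonempty_obj₁ T1 T2 hT1 hT2 a (b ≪≫ w) h5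

end main

end Groth.Agent.K512.FMDual
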