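import Groth.Agent.AbVar.K512.FMDual
import Groth.Agent.AbDual.K732.AV
import Groth.Agent.Fga.RigGrp
import Groth.Prelude.Def_AbDual
import Groth.Agent.LoccohB.DQCohTri

/-!
# `Φ_P(I_0^∨) ≅ I_{0^t}[-(g-1)]`, from `R^i pr_{2,*} P` and the faithfulness of `Φ_P`
-/

set_option autoImplicit false
universe u v w
open CategoryTheory CategoryTheory.Limits AlgebraicGeometry MonoidalCategory CartesianMonoidalCategory MonObj Pretriangulated
attribute [local instance] HasDerivedCategory.standard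

namespace Groth.Agent.K512.FMDualMain

open Groth.Agent Groth.Agent.Dcoh Groth.Agent.PerfC.IsoLocus Groth.Agent.K512.DualSky K353.Calc
  Groth.Agent.PerfC.RHomD

theorem isPullback_secT {X S : Scheme.{u}} (f : X ⟶ S) (σ : S ⟶ X) (hσ : σ ≫ f = 𝟙 S) (T : Over S) :
    IsPullback T.hom (PicF.secT f σ hσ T) σ (pullback.fst f T.hom) := by
  have h1 : IsPullback (pullback.fst f T.hom) (pullback.snd f T.hom) f T.hom := IsPullback.of_hasPullback _ _
  have h3 : PicF.secT f σ hσ T ≫ pullback.snd f T.hom = 𝟙 _ := pullback.lift_snd _ _ _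
  have h4 : PicF.secT f σ hσ T ≫ pullback.fst f T.hom = T.hom ≫ σ := pullback.lift_fst _ _ _
  refine IsPullback.of_bot ?_ h4.symm h1
  rw [h3, hσ]
  exact IsPullback.of_vert_isIso ⟨by simp⟩

section faithful

variable {C : Type*} [Category C] {D : Type*} [Category D] [Limits.HasZeroMorphisms C] [Limits.HasZeroMorphisms D]

/-- A functor which is faithful on a full subcategory detects the zero morphisms between its objects. -/
theorem eq_zero_of_lift (P : ObjectProperty C) (Q : ObjectProperty D) (F : C ⥤ D)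
    (hF : ∀ M : P.FullSubcategory, Q ((P.ι ⋙ F).obj M)) (h : (Q.lift (P.ι ⋙ F) hF).Faithful)
    [F.PreservesZeroMorphisms] (M N : C) (f : M ⟶ N) (hM : P M) (hN : P N) (hf : F.map f = 0) : f = 0 := by
  let M' : P.FullSubcategory := ⟨M, hM⟩
  let N' : P.FullSubcategory := ⟨N, hN⟩
  let f' : M' ⟶ N' := ObjectProperty.homMk f
  let z' : M' ⟶ N' := ObjectProperty.homMk 0
  have h1 : f' = z' := (Q.lift (P.ι ⋙ F) hF).map_injective (by
    ext
    change F.map f = F.map 0
    rw [hf, F.map_zero])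
  exact congrArg (fun x => x.hom) h1

end faithful

section qc

open scoped Groth.Agent.Dcoh.MonCat Groth.Agent.Dcoh.ModD

variable {X Y W : Scheme.{u}} (p : W ⟶ X) (q : W ⟶ Y) [QuasiCompact q] [QuasiSeparated q] {P : W.Modules}

theorem qc_fm [DCoh.HasLpull p] [DCoh.HasLTensorMod P] [DCoh.HasRpush q] (hP : PicF.IsInvertible P)
    (M : DCoh.D X) (hM : DCoh.IsQCohD M) :
    DCoh.IsQCohD ((DCoh.Lpull p ⋙ DCoh.LTensorMod P ⋙ DCoh.Rpush q).obj M) := by
  have i6 : DCoh.HasLTensorCx (Cohder.RelPCMon.sgl P) := Dcoh.ModTens.hasLTensorCx _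
  have qP : qc W (DCoh.inD W P) := PerfC.RpushCoh.isQCohD_inD (Ega2.QCohLocal.isQCoh_of_isInvertible hP)
  obtain ⟨d1⟩ := Cohder.RelPCMon.nonempty_mod P ((DCoh.Lpull p).obj M)
  obtain ⟨d2⟩ := ltensorCx (Cohder.RelPCMon.sgl P)
  exact qc_rpush q _ (PerfC.ProjAbs291.isQCohD_of_iso (d1 ≪≫ d2.app _).symm
    (qc_tensor _ _ (qc_lpull p M hM) qP))

end qc

set_option linter.unusedSectionVars false

variable (k : Type u) [Field k] (A At : Over (Spec (CommRingCat.of k))) [GrpObj A] [IsProper A.hom] [Smooth A.hom]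
  [GeometricallyConnected A.hom] [GrpObj At] [IsProper At.hom] [Smooth At.hom] [GeometricallyConnected At.hom]
  (φ : ∀ T : Over (Spec (CommRingCat.of k)), PicF.Cl (PicF.XT A.hom T) → (T ⟶ At))
  (P : (pullback A.hom At.hom).Modules) (hP : PicF.IsInvertible P)
  (hPξ : AbDual.IsPoincareCl A At φ (PicF.cl P))
  (g : ℕ) (hg : topologicalKrullDim ↥A.left = g)
  [DCoh.HasLpull (pullback.fst A.hom At.hom)] [DCoh.HasLTensorMod P] [DCoh.HasRpush (pullback.snd A.hom At.hom)]

/-- The Fourier–Mukai functor. -/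
noncomputable abbrev FM : DCoh.D A.left ⥤ DCoh.D At.left :=
  DCoh.Lpull (pullback.fst A.hom At.hom) ⋙ DCoh.LTensorMod P ⋙ DCoh.Rpush (pullback.snd A.hom At.hom)

include hP hPξ hg in
theorem nonempty_iso [HasInjectiveResolutions (pullback A.hom At.hom).Modules]
    (h1 : ∀ i : ℕ, i ≠ g → IsZero ((Coh.Rpush (pullback.snd A.hom At.hom) i).obj P))
    (h2 : Nonempty ((Coh.Rpush (pullback.snd A.hom At.hom) g).obj P ≅
        (Coh.push η[At].left).obj (Coh.structureModule (Spec (CommRingCat.of k)))))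
    (h3 : ∀ (M N : DCoh.D A.left) (f : M ⟶ N), DCoh.IsQCohD M → DCoh.IsQCohD N → (FM k A At P).map f = 0 → f = 0)
    [DCoh.HasLTensorCx ((HomologicalComplex.single A.left.Modules (ComplexShape.up ℤ) 0).obj
      (kernel (ClSub.unitToPush η[A].left)))]
    [DCoh.HasRSheafHom ((HomologicalComplex.single A.left.Modules (ComplexShape.up ℤ) 0).obj
      (kernel (ClSub.unitToPush η[A].left)))] :
    Nonempty ((FM k A At P).obj
        ((DCoh.RSheafHom ((HomologicalComplex.single A.left.Modules (ComplexShape.up ℤ) 0).obj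
          (kernel (ClSub.unitToPush η[A].left)))).obj (DCoh.inD A.left (Coh.structureModule A.left))) ≅
      (shiftFunctor (DCoh.D At.left) (-((g : ℤ) - 1))).obj (DCoh.inD At.left (kernel (ClSub.unitToPush η[At].left)))) := by
  have gA : GeometricallyIntegral A.hom := K732.AV.geomInt A
  have hI : IsIntegral A.left := GeometricallyIntegral.isIntegral_of_subsingleton A.hom
  obtain ⟨h2⟩ := h2
  have hk : IsField Γ(Spec (CommRingCat.of k), ⊤) := SkyHom.isField_spec k
  have c1 : IsClosedImmersion η[A].left := K517.ExtPoint.isClosedImmersion_unit A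
  have c2 : IsClosedImmersion η[At].left := K517.ExtPoint.isClosedImmersion_unit At
  obtain ⟨T, hT, hT0, ⟨e1⟩, ⟨e2⟩, ⟨e3⟩⟩ := exists_triangle A g hg
  have qO : DCoh.IsQCohD (OD A.left) :=
    PerfC.RpushCoh.isQCohD_inD (Ega2.QCohLocal.isQCoh_of_isInvertible Fdesc.LocGen.isInvertible_structureModule)
  have hΦ : IsTriang (FM k A At P) := FMSky.isTriang _ _ hP
  have qS : DCoh.IsQCohD (skyD η[A].left) := by
    have i1 := hasRpush η[A].left
    obtain ⟨b⟩ := PerfC.RpushCoh.nonempty_closed η[A].left (Coh.structureModule (Spec (CommRingCat.of k)))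
    exact PerfC.ProjAbs291.isQCohD_of_iso b (qc_rpush η[A].left _ (PerfC.RpushCoh.isQCohD_inD
      (Ega2.QCohLocal.isQCoh_of_isInvertible Fdesc.LocGen.isInvertible_structureModule)))
  have q1 : DCoh.IsQCohD (T.obj₁⟦(1 : ℤ)⟧) :=
    (DCoh.IsQCohD (X := A.left)).le_shift (1 : ℤ) _ (PerfC.ProjAbs291.isQCohD_of_iso e1.symm qO)
  have q3 : DCoh.IsQCohD T.obj₃ := PerfC.ProjAbs291.isQCohD_of_iso e3.symm
    ((DCoh.IsQCohD (X := A.left)).le_shift (-((g : ℤ) - 1)) _ qS)
  have hΦ0 : (FM k A At P).map T.mor₃ ≠ 0 := fun h => hT0 (h3 _ _ _ q3 q1 h)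
  have hΦ1 : Nonempty ((FM k A At P).obj (OD A.left) ≅ (skyD η[At].left)⟦(-(g : ℤ))⟧) :=
    FMSky.nonempty_structure _ _ g _ h1 h2
  have hΦ2 : Nonempty ((FM k A At P).obj (skyD η[A].left) ≅ OD At.left) := by
    have h4 : Nonempty ((Scheme.Modules.pullback (PicF.secT A.hom η[A].left (Over.w η[A]) At)).obj P ≅
        Coh.structureModule At.left) := (Fga.RigGrp.cl_eq_iff _ _).1 hPξ.2.2
    obtain ⟨h4⟩ := h4
    exact FMSky.nonempty_sky _ _ η[A].left At.hom _ (isPullback_secT A.hom η[A].left (Over.w η[A]) At)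
      (pullback.lift_snd _ _ _) hP h4
  obtain ⟨f⟩ := FMDual.nonempty_iso η[A].left η[At].left hk hΦ g hΦ1 hΦ2 T hT hΦ0 e1 e3
  refine ⟨(FM k A At P).mapIso ?_ ≪≫ f⟩
  exact (rsIso _).app _ ≪≫ rhIso ((DerivedCategory.singleFunctorIsoCompQ A.left.Modules 0).app _) _ ≪≫ e2.symm

end Groth.Agent.K512.FMDualMain
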