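import Groth.Agent.AbVar.K512.DualSky
import Groth.Agent.AbVar.K512.FMPull
import Groth.Agent.Dual.H328.LpullSingle
import Groth.Agent.Cohder.RelPCMon
import Groth.Agent.DEquiv.K353.Diag
import Groth.Agent.PerfC.RpushSingle
import Groth.Agent.LoccohB.DQCohBasic

/-!
# Fourier–Mukai functors with an invertible kernel: triangulated, values on `O` and on skyscrapers

`Φ = Rq_*(Lp^*(-) ⊗^L P)` for `X ←p- W -q→ Y` and `P` invertible on `W`:
* `isTriang`: `Φ` is triangulated;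
* `nonempty_structure`: `Φ(O_X) ≅ N[-g]` if `R^i q_* P = 0` for `i ≠ g` and `R^g q_* P ≅ N`;
* `nonempty_sky`: `Φ(z_* O_Z) ≅ O_Y` for `z : Z ⟶ X` with base change `t' : Y ⟶ W` a section of `q`, `t'^* P ≅ O_Y`.
-/

set_option autoImplicit false
universe u v w
open CategoryTheory CategoryTheory.Limits AlgebraicGeometry MonoidalCategory Pretriangulated
attribute [local instance] HasDerivedCategory.standard
open scoped Groth.Agent.Dcoh.MonCat Groth.Agent.Dcoh.ModD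

namespace Groth.Agent.K512.FMSky

open Groth.Agent Groth.Agent.Dcoh Groth.Agent.PerfC.IsoLocus Groth.Agent.K512.DualSky K353.Calc K353.OnSub

variable {X Y W Z : Scheme.{u}} (p : W ⟶ X) (q : W ⟶ Y) {P : W.Modules}

theorem isTriang_tens (hP : PicF.IsInvertible P) [DCoh.HasLTensorMod P] : IsTriang (DCoh.LTensorMod P) := by
  have := K512.FMIso.pfl hP
  exact IsTriang.of_iso (F := (DCoh.tensorRightMod P).mapDerivedCategory) (IsTriang.mk' _)
    (Groth.Agent.PerfB.TensExact.LTensorModIso P).symm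

theorem isTriang (hP : PicF.IsInvertible P) [DCoh.HasLpull p] [DCoh.HasLTensorMod P] [DCoh.HasRpush q] :
    IsTriang (DCoh.Lpull p ⋙ DCoh.LTensorMod P ⋙ DCoh.Rpush q) :=
  (K242.QCohKit.isTriang_Lpull p).comp ((isTriang_tens hP).comp (K242.QCohKit.isTriang_Rpush q))

/-- `Φ(O_X) ≅ N[-g]`. -/
theorem nonempty_structure [DCoh.HasLpull p] [DCoh.HasLTensorMod P] [DCoh.HasRpush q]
    [HasInjectiveResolutions W.Modules] (g : ℕ) (N : Y.Modules)
    (h : ∀ i : ℕ, i ≠ g → IsZero ((Coh.Rpush q i).obj P)) (e : (Coh.Rpush q g).obj P ≅ N) :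
    Nonempty ((DCoh.Lpull p ⋙ DCoh.LTensorMod P ⋙ DCoh.Rpush q).obj (OD X) ≅ (DCoh.inD Y N)⟦(-(g : ℤ))⟧) := by
  obtain ⟨e1⟩ : Nonempty ((DCoh.Rpush q).obj (DCoh.inD W P) ≅ (DCoh.inD Y N)⟦(-(g : ℤ))⟧) := by
    refine RHCone.nonempty_single _ _ (fun i hi => ?_) N (PerfC.RpushSingle.iso q g P ≪≫ e)
    rcases lt_or_ge i 0 with h0 | h0
    · exact PerfC.RpushSingle.isZero_of_neg q P i h0
    · lift i to ℕ using h0
      exact (h i (by exact_mod_cast hi)).of_iso (PerfC.RpushSingle.iso q i P)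
  exact ⟨(DCoh.Rpush q).mapIso ((DCoh.LTensorMod P).mapIso (PerfB.FibreZero.lpullStructure p) ≪≫
    PerfB.FibreZero.structureLTensor P) ≪≫ e1⟩

/-- `Φ(z_* O_Z) ≅ O_Y` if `P` is trivial along the section `t' : Y ⟶ W` of `q` which is the base change of `z`. -/
theorem nonempty_sky [DCoh.HasLpull p] [DCoh.HasLTensorMod P] [DCoh.HasRpush q] (z : Z ⟶ X) [IsClosedImmersion z]
    [Flat p] (t : Y ⟶ Z) (t' : Y ⟶ W) (sq : IsPullback t t' z p) (ht' : t' ≫ q = 𝟙 Y)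
    (hP : PicF.IsInvertible P) (e : (Scheme.Modules.pullback t').obj P ≅ Coh.structureModule Y) :
    Nonempty ((DCoh.Lpull p ⋙ DCoh.LTensorMod P ⋙ DCoh.Rpush q).obj (skyD z) ≅ OD Y) := by
  have hc : IsClosedImmersion t' := MorphismProperty.of_isPullback sq inferInstance
  have i1 := hasRpush z
  have i2 := hasRpush t'
  have i3 := hasLpull t
  have i4 := hasLpull t'
  have i5 := hasRpush (𝟙 Y)
  have i6 : DCoh.HasLTensorCx (Cohder.RelPCMon.sgl P) := Dcoh.ModTens.hasLTensorCx _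
  have qO : ∀ S : Scheme.{u}, qc S (OD S) := fun S =>
    PerfC.RpushCoh.isQCohD_inD (Ega2.QCohLocal.isQCoh_of_isInvertible Fdesc.LocGen.isInvertible_structureModule)
  have qP : qc W (DCoh.inD W P) := PerfC.RpushCoh.isQCohD_inD (Ega2.QCohLocal.isQCoh_of_isInvertible hP)
  obtain ⟨b⟩ := PerfC.RpushCoh.nonempty_closed z (Coh.structureModule Z)
  -- base change
  obtain ⟨c1⟩ := (bc (Or.inr inferInstance) sq : IsoOn (qc Z) (DCoh.Rpush z ⋙ DCoh.Lpull p)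
    (DCoh.Lpull t ⋙ DCoh.Rpush t')).app (qO Z)
  let c2 : (DCoh.Lpull p).obj (skyD z) ≅ (DCoh.Rpush t').obj (OD Y) :=
    (DCoh.Lpull p).mapIso b.symm ≪≫ c1 ≪≫ (DCoh.Rpush t').mapIso (PerfB.FibreZero.lpullStructure t)
  -- projection formula
  obtain ⟨d1⟩ := Cohder.RelPCMon.nonempty_mod P ((DCoh.Rpush t').obj (OD Y))
  obtain ⟨d2⟩ := ltensorCx (Cohder.RelPCMon.sgl P)
  obtain ⟨d3⟩ := (proj_right t' (DCoh.toD W (Cohder.RelPCMon.sgl P)) qP).app (qO Y)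
  obtain ⟨d4⟩ := Dual.H328.LpullSingle.nonempty_lpull_inD t' P (PerfB.TensInv.isFlat_of_isInvertible hP)
  let d5 : (DCoh.Lpull t').obj (DCoh.toD W (Cohder.RelPCMon.sgl P)) ≅ OD Y :=
    d4 ≪≫ (DerivedCategory.singleFunctor Y.Modules 0).mapIso e
  let d6 : (DCoh.LTensorMod P).obj ((DCoh.Rpush t').obj (OD Y)) ≅ (DCoh.Rpush t').obj (OD Y) :=
    d1 ≪≫ d2.app _ ≪≫ d3 ≪≫ (DCoh.Rpush t').mapIso
      ((tensorLeft (OD Y)).mapIso (d5 ≪≫ DualX.unitIso Y) ≪≫ ρ_ (OD Y))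
  -- composition
  obtain ⟨f1⟩ := rpush_comp t' q (𝟙 Y) ht'
  obtain ⟨f2⟩ := K353.Diag.rpush_id Y
  exact ⟨(DCoh.Rpush q).mapIso ((DCoh.LTensorMod P).mapIso c2 ≪≫ d6) ≪≫ f1.app (OD Y) ≪≫ f2.app (OD Y)⟩

end Groth.Agent.K512.FMSky
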