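import Groth.Agent.AbVar.K512.FMIso

/-!
# The integral functor `Rq_*(Lp^*(-) ⊗^L P)` and translations
-/

set_option autoImplicit false
universe u

open CategoryTheory CategoryTheory.Limits AlgebraicGeometry
attribute [local instance] HasDerivedCategory.standard

namespace K512.FMTrans

open Groth.Agent Groth.Agent.PerfB.TensInv Groth.Agent.Dcoh.DerPull K512.FMIso

section Abs

variable {CX CW CY : Type*} [Category CX] [Category CW] [Category CY]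

/-- Abstract form of `Φ(F ⊗ M) ≅ t^* Φ(F)`. -/
def absA {LX : CX ⥤ CX} {p : CX ⥤ CW} {P PM M' T : CW ⥤ CW} {q : CW ⥤ CY} {t : CY ⥤ CY}
    (bc : q ⋙ t ≅ T ⋙ q) (e1 : P ⋙ T ≅ T ⋙ PM) (e2 : p ⋙ T ≅ p) (e3 : M' ⋙ P ≅ PM)
    (e4 : LX ⋙ p ≅ p ⋙ M') : LX ⋙ (p ⋙ P ⋙ q) ≅ (p ⋙ P ⋙ q) ⋙ t :=
  let a1 : (p ⋙ P ⋙ q) ⋙ t ≅ p ⋙ P ⋙ T ⋙ q := Functor.isoWhiskerLeft (p ⋙ P) bc
  let a2 : p ⋙ P ⋙ T ⋙ q ≅ p ⋙ T ⋙ PM ⋙ q := Functor.isoWhiskerLeft p (Functor.isoWhiskerRight e1 q)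
  let a3 : p ⋙ T ⋙ PM ⋙ q ≅ p ⋙ PM ⋙ q := Functor.isoWhiskerRight e2 (PM ⋙ q)
  let a4 : p ⋙ M' ⋙ P ⋙ q ≅ p ⋙ PM ⋙ q := Functor.isoWhiskerLeft p (Functor.isoWhiskerRight e3 q)
  let a5 : LX ⋙ (p ⋙ P ⋙ q) ≅ p ⋙ M' ⋙ P ⋙ q := Functor.isoWhiskerRight e4 (P ⋙ q)
  a5 ≪≫ a4 ≪≫ a3.symm ≪≫ a2.symm ≪≫ a1.symm

/-- Abstract form of `Φ(t^* F) ≅ Φ(F) ⊗ N`. -/
def absB {t : CX ⥤ CX} {p : CX ⥤ CW} {P PN N' T : CW ⥤ CW} {q : CW ⥤ CY} {LY : CY ⥤ CY}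
    (e1 : t ⋙ p ≅ p ⋙ T) (e2 : PN ⋙ T ≅ T ⋙ P) (e3 : T ⋙ q ≅ q) (e4 : P ⋙ N' ≅ PN)
    (e5 : N' ⋙ q ≅ q ⋙ LY) : t ⋙ (p ⋙ P ⋙ q) ≅ (p ⋙ P ⋙ q) ⋙ LY :=
  let a1 : t ⋙ (p ⋙ P ⋙ q) ≅ p ⋙ T ⋙ P ⋙ q := Functor.isoWhiskerRight e1 (P ⋙ q)
  let a2 : p ⋙ T ⋙ P ⋙ q ≅ p ⋙ PN ⋙ T ⋙ q :=
    Functor.isoWhiskerLeft p (Functor.isoWhiskerRight e2.symm q)
  let a3 : p ⋙ PN ⋙ T ⋙ q ≅ p ⋙ PN ⋙ q := Functor.isoWhiskerLeft (p ⋙ PN) e3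
  let a4 : p ⋙ PN ⋙ q ≅ p ⋙ P ⋙ N' ⋙ q :=
    Functor.isoWhiskerLeft p (Functor.isoWhiskerRight e4.symm q)
  let a5 : p ⋙ P ⋙ N' ⋙ q ≅ (p ⋙ P ⋙ q) ⋙ LY := Functor.isoWhiskerLeft (p ⋙ P) e5
  a1 ≪≫ a2 ≪≫ a3 ≪≫ a4 ≪≫ a5

end Abs

variable {X Y W : Scheme.{u}} (p : W ⟶ X) (q : W ⟶ Y) {P : W.Modules} (hP : PicF.IsInvertible P)
  [DCoh.HasLpull p] [DCoh.HasLTensorMod P] [DCoh.HasRpush q]

include hP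

/-- `Φ(F ⊗ M) ≅ t^* Φ(F)` if `T^* P ≅ P ⊗ p^* M` for an automorphism `T` of `W` above `(1, t)`. -/
theorem nonempty_right [Flat p] (T : W ⟶ W) (t : Y ⟶ Y) [IsIso T] [IsIso t] (w1 : T ≫ q = q ≫ t)
    (w2 : T ≫ p = p) {M : X.Modules} (hM : PicF.IsInvertible M)
    (e : (Scheme.Modules.pullback T).obj P ≅ CohB1.tensorMod P ((Scheme.Modules.pullback p).obj M))
    [DCoh.HasLTensorMod M] [DCoh.HasLpull t] :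
    Nonempty (DCoh.LTensorMod M ⋙ (DCoh.Lpull p ⋙ DCoh.LTensorMod P ⋙ DCoh.Rpush q) ≅
      (DCoh.Lpull p ⋙ DCoh.LTensorMod P ⋙ DCoh.Rpush q) ⋙ DCoh.Lpull t) := by
  have hpM := Fdesc.LocGen.isInvertible_pullback p hM
  have i1 := hasLTensorMod_of_isInvertible hpM
  have i2 := hasLTensorMod_of_isInvertible (Fdesc.LocGen.isInvertible_tensorMod hP hpM)
  have i3 : DCoh.HasLpull T := hasLpull _
  exact ⟨absA (bcIso q q T t w1) (ltPullOf T hP e) (pullCompOf T p p w2)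
    (ltCompOf hpM hP (Ega2.Tens.swap _ _)) (ltPull p hM)⟩

/-- `Φ(t^* F) ≅ Φ(F) ⊗ N` if `P ≅ T^* (P ⊗ q^* N)` for an automorphism `T` of `W` above `(t, 1)`. -/
theorem nonempty_left [Flat q] (T : W ⟶ W) (t : X ⟶ X) [IsIso T] (w1 : T ≫ q = q)
    (w2 : T ≫ p = p ≫ t) {N : Y.Modules} (hN : PicF.IsInvertible N)
    (e : (Scheme.Modules.pullback T).obj (CohB1.tensorMod P ((Scheme.Modules.pullback q).obj N)) ≅ P)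
    [DCoh.HasLTensorMod N] [DCoh.HasLpull t] :
    Nonempty (DCoh.Lpull t ⋙ (DCoh.Lpull p ⋙ DCoh.LTensorMod P ⋙ DCoh.Rpush q) ≅
      (DCoh.Lpull p ⋙ DCoh.LTensorMod P ⋙ DCoh.Rpush q) ⋙ DCoh.LTensorMod N) := by
  have hqN := Fdesc.LocGen.isInvertible_pullback q hN
  have i1 := hasLTensorMod_of_isInvertible hqN
  have i2 := hasLTensorMod_of_isInvertible (Fdesc.LocGen.isInvertible_tensorMod hP hqN)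
  have i3 : DCoh.HasLpull T := hasLpull _
  have i4 : DCoh.HasLpull (p ≫ t) := hasLpull _
  have i5 : DCoh.HasLpull (𝟙 Y) := hasLpull _
  exact ⟨absB (pullCompOf p t (p ≫ t) rfl ≪≫ (pullCompOf T p (p ≫ t) w2).symm)
    (ltPullOf T (Fdesc.LocGen.isInvertible_tensorMod hP hqN) e)
    ((bcIso q q T (𝟙 Y) (by rw [w1, Category.comp_id])).symm ≪≫
      Functor.isoWhiskerLeft _ pullId ≪≫ Functor.rightUnitor _)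
    (ltComp hP hqN) (projInv q hN).symm⟩

end K512.FMTrans
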