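import Groth.Agent.AbVar.K512.Acyc
import Groth.Agent.Ega3B.AcycNbhd

/-!
# Acyclic fibres and acyclic neighbourhoods

`π : X ⟶ T` proper, `T` locally Noetherian, `F` coherent and flat over `T`, `t : Spec K ⟶ T` a point.
All cohomology groups of the pullback of `F` to the fibre at `t` vanish if and only if `F` is acyclic
over `π⁻¹ V` for some affine open neighbourhood `V` of `t`.
-/

set_option autoImplicit false
universe u

open CategoryTheory CategoryTheory.Limits AlgebraicGeometry Opposite TopologicalSpace TensorProduct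
open Groth.Agent Groth.Agent.Ega3B.AcycNbhd Groth.Agent.Ega3B.AcyclicBC Groth.Agent.VarietyB.FlatH0
  Groth.Agent.VarietyB.BCAlg Groth.Agent.Fdesc K512.Acyc

namespace K512.FibAcyc

section

variable {X Y S T : Scheme.{u}} {f : T ⟶ S} {g : Y ⟶ X} {iX : X ⟶ S} {iY : Y ⟶ T}

theorem sections_of_bc (w : g ≫ iX = iY ≫ f) (F : X.Modules)
    (hbc : IsBC w F (US := ⊤) (UT := ⊤) le_top (UX := ⊤) le_top (UY := ⊤) le_top le_top)
    (h : Subsingleton Γ(F, ⊤)) : Subsingleton Γ((Scheme.Modules.pullback g).obj F, ⊤) := by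
  refine subsingleton_of_forall_eq 0 fun y => ?_
  obtain ⟨x, rfl⟩ := hbc.2 y
  have h0 : ∀ x : (letI := algOver f (US := ⊤) (UT := ⊤) le_top
      letI := modOver iX F (US := ⊤) (UX := ⊤) le_top
      Γ(T, ⊤) ⊗[Γ(S, ⊤)] Γ(F, ⊤)), x = 0 := by
    intro x
    let i1 := algOver f (US := ⊤) (UT := ⊤) le_top
    let i2 := modOver iX F (US := ⊤) (UX := ⊤) le_top
    induction x using TensorProduct.induction_on with
    | zero => rfl
    | tmul a m => rw [Subsingleton.elim m 0, tmul_zero]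
    | add x y hx hy => rw [hx, hy, add_zero]
  rw [h0 x]
  exact map_zero _

theorem rank_zero_of_bc (w : g ≫ iX = iY ≫ f) (F : X.Modules)
    (hbc : IsBC w F (US := ⊤) (UT := ⊤) le_top (UX := ⊤) le_top (UY := ⊤) le_top le_top)
    (hT : Nontrivial Γ(T, ⊤)) (r : ℕ)
    (b : letI := modOver iX F (US := ⊤) (UX := ⊤) le_top; Module.Basis (Fin r) Γ(S, ⊤) Γ(F, ⊤))
    (h : Subsingleton Γ((Scheme.Modules.pullback g).obj F, ⊤)) : Subsingleton Γ(F, ⊤) := by
  let i1 := algOver f (US := ⊤) (UT := ⊤) le_top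
  let i2 := modOver iX F (US := ⊤) (UX := ⊤) le_top
  rcases r with _ | r
  · refine subsingleton_of_forall_eq 0 fun x => ?_
    rw [← b.sum_repr x]
    simp
  · exfalso
    have h1 := (Algebra.TensorProduct.basis Γ(T, ⊤) b).ne_zero 0
    apply h1
    apply hbc.1
    exact Subsingleton.elim _ _

end

variable {X T XK : Scheme.{u}} (π : X ⟶ T) [IsProper π] [IsLocallyNoetherian T]
    (F : X.Modules) (hF : Coh.IsCoh F) (hfl : FlatMod.IsFlatOver π F) {K : Type u} [Field K]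
    (t : Spec (CommRingCat.of K) ⟶ T) (g : XK ⟶ X) (πK : XK ⟶ Spec (CommRingCat.of K))
    (H : IsPullback g πK π t) (x : Spec (CommRingCat.of K))

theorem hh0_iff {X : Scheme.{u}} (F : X.Modules) : Subsingleton (Coh.HH X F 0) ↔ Subsingleton Γ(F, ⊤) :=
  (Flat2D.LocalGlobalH.HU_top_iff F 0).symm.trans (hu0_iff (X := X.toTopCat) (F := Coh.toAb F) ⊤)

include hF hfl H in
/-- If all cohomology of the fibre vanishes then `F` is acyclic over a neighbourhood. -/
theorem exists_acycOver (hK : ∀ p, Subsingleton (Coh.HH XK ((Scheme.Modules.pullback g).obj F) p)) :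
    ∃ V : T.Opens, IsAffineOpen V ∧ t x ∈ V ∧ AcycOver π F V := by
  obtain ⟨V, hV, hx, h⟩ := exists_nbhd π F hF hfl t g πK H (fun p => hK _) x
  refine ⟨V, hV, hx, ?_⟩
  have i1 : IsAffine V.toScheme := hV
  obtain ⟨t0, ht0⟩ := exists_lift t x V hx
  have HV : IsPullback (π ⁻¹ᵁ V).ι (π ∣_ V) π V.ι := (isPullback_morphismRestrict π V).flip
  obtain ⟨g0, hg0, HK⟩ := factor H HV t0 ht0
  obtain ⟨h1, r, ⟨b⟩⟩ := h _ _ _ HV
  have hq : Coh.IsQCoh ((Scheme.Modules.pullback (π ⁻¹ᵁ V).ι).obj F) :=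
    VarietyB.PullSec.isQCoh_pullback _ F hF.1
  have hfl1 : FlatMod.IsFlatOver (π ∣_ V) ((Scheme.Modules.pullback (π ⁻¹ᵁ V).ι).obj F) :=
    fun z => Fdesc.FlatBC.isFlatOverAt_pullback HV F z (hfl _)
  obtain ⟨-, h2, -⟩ := acyclicBC HK _ hq hfl1 h1
  have h3 : Subsingleton Γ((Scheme.Modules.pullback g0).obj
      ((Scheme.Modules.pullback (π ⁻¹ᵁ V).ι).obj F), ⊤) :=
    (hh0_iff _).1 (Flat2D.LocalGlobalH.subsingleton_HH_of_iso (compIso g0 _ g hg0 F).symm 0 (hK 0))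
  have hT : Nontrivial Γ(Spec (CommRingCat.of K), ⊤) := (isField_spec K).nontrivial
  have h4 := rank_zero_of_bc HK.w _ h2 hT r b h3
  intro p
  have h5 : (π ⁻¹ᵁ V) = (π ⁻¹ᵁ V).ι ''ᵁ ⊤ := by simp
  refine (Flat2D.LocalGlobalH.HU_iff_pullback (π ⁻¹ᵁ V).ι F _ h5 p).2 ?_
  cases p with
  | succ p => exact h1 p
  | zero => exact (hh0_iff _).2 h4

omit [IsLocallyNoetherian T] in
include hF hfl H in
/-- If `F` is acyclic over an affine neighbourhood then all cohomology of the fibre vanishes. -/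
theorem fibre_of_acycOver (V : T.Opens) (hV : IsAffineOpen V) (hx : t x ∈ V) (h : AcycOver π F V) :
    ∀ p, Subsingleton (Coh.HH XK ((Scheme.Modules.pullback g).obj F) p) := by
  have i1 : IsAffine V.toScheme := hV
  obtain ⟨t0, ht0⟩ := exists_lift t x V hx
  have HV : IsPullback (π ⁻¹ᵁ V).ι (π ∣_ V) π V.ι := (isPullback_morphismRestrict π V).flip
  obtain ⟨g0, hg0, HK⟩ := factor H HV t0 ht0
  have hq : Coh.IsQCoh ((Scheme.Modules.pullback (π ⁻¹ᵁ V).ι).obj F) :=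
    VarietyB.PullSec.isQCoh_pullback _ F hF.1
  have hfl1 : FlatMod.IsFlatOver (π ∣_ V) ((Scheme.Modules.pullback (π ⁻¹ᵁ V).ι).obj F) :=
    fun z => Fdesc.FlatBC.isFlatOverAt_pullback HV F z (hfl _)
  have h5 : (π ⁻¹ᵁ V) = (π ⁻¹ᵁ V).ι ''ᵁ ⊤ := by simp
  have h6 : ∀ p, Subsingleton (Coh.HH _ ((Scheme.Modules.pullback (π ⁻¹ᵁ V).ι).obj F) p) :=
    fun p => (Flat2D.LocalGlobalH.HU_iff_pullback (π ⁻¹ᵁ V).ι F _ h5 p).1 (h p)
  obtain ⟨h1, h2, -⟩ := acyclicBC HK _ hq hfl1 (fun p => h6 (p + 1))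
  have h3 := sections_of_bc HK.w _ h2 ((hh0_iff _).1 (h6 0))
  intro p
  refine Flat2D.LocalGlobalH.subsingleton_HH_of_iso (compIso g0 _ g hg0 F) p ?_
  cases p with
  | succ p => exact h1 p
  | zero => exact (hh0_iff _).2 h3

end K512.FibAcyc
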