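import Groth.Agent.AbVar.K512.DisjDecomp
import Groth.Agent.AbVar.K512.Slice
import Groth.Agent.AbVar.K512.Pts
import Groth.Agent.AbSch.K450.KerTors
import Groth.Agent.Grpsch.KerMul
import Groth.Agent.Localalg.CartierSch
import Groth.Agent.NeronHD.K776.SmoothLqf
import Groth.Agent.CohqA.AffineBaseChange

/-!
# `π^* π_* E` is the sum of the translates of `E` by the kernel of a separable isogeny

`k` algebraically closed of characteristic zero, `π : A ⟶ B` a finite homomorphism of `k`-group schemes of finite type: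
`nonempty_iso : π^* π_* E ≅ ∐_{a ∈ ker π(k)} t_a^* E` for `E` quasi-coherent.
-/

set_option autoImplicit false
universe u

open CategoryTheory CategoryTheory.Limits MonoidalCategory CartesianMonoidalCategory AlgebraicGeometry
open Scheme.Modules hiding pullback
open scoped MonObj
open K512.Slice

namespace K512.IsogSplit

variable {k : Type u} [Field k]

section Kernel

variable {N : Over (Spec (CommRingCat.of k))}

theorem isOpenImmersion_of_section {W T : Scheme.{u}} (h : W ⟶ T) [Etale h] (σ : T ⟶ W) (hσ : σ ≫ h = 𝟙 T) :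
    IsOpenImmersion σ := by
  have h1 : Etale (σ ≫ h) := by rw [hσ]; infer_instance
  have h2 : Etale σ := Etale.of_comp σ h
  have h3 : Mono σ := mono_of_mono_fac hσ
  exact IsOpenImmersion.of_flat_of_mono σ

theorem isOpenImmersion_pt [Etale N.hom] (a : 𝟙_ (Over (Spec (CommRingCat.of k))) ⟶ N) :
    IsOpenImmersion a.left := isOpenImmersion_of_section N.hom a.left (Over.w a)

variable [IsFinite N.hom]

theorem finite_space : Finite N.left := by
  have h0 : Finite (Spec (CommRingCat.of k)) := inferInstanceAs (Finite (PrimeSpectrum k))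
  have h1 : (N.hom ⁻¹' Set.univ : Set N.left).Finite :=
    Set.Finite.preimage' (Set.toFinite _) fun b _ => N.hom.finite_preimage_singleton b
  rw [Set.preimage_univ] at h1
  exact Set.finite_univ_iff.1 h1

theorem isClosed_singleton (x : N.left) : IsClosed ({x} : Set N.left) := by
  have h1 := finite_space (N := N)
  have h2 : JacobsonSpace N.left := LocallyOfFiniteType.jacobsonSpace N.hom
  exact isClosed_discrete _

variable [IsAlgClosed k]

theorem finite_pts : Finite (𝟙_ (Over (Spec (CommRingCat.of k))) ⟶ N) := by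
  have := finite_space (N := N)
  exact Finite.of_injective (fun a => a.left (IsLocalRing.closedPoint k)) fun a b h => Pts.ext_pt h

theorem exists_pt (z : N.left) : ∃ a : 𝟙_ (Over (Spec (CommRingCat.of k))) ⟶ N,
    a.left (IsLocalRing.closedPoint k) = z := Pts.exists_pt z (isClosed_singleton z)

end Kernel

section Decomp

variable [IsAlgClosed k] {A N : Over (Spec (CommRingCat.of k))} [IsFinite N.hom] [Etale N.hom]

instance isOpenImmersion_j2 (a : 𝟙_ (Over (Spec (CommRingCat.of k))) ⟶ N) : IsOpenImmersion (j2 A a).left := by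
  have := isOpenImmersion_pt a
  exact MorphismProperty.of_isPullback (P := @IsOpenImmersion) (isPullback_left_j2 a).flip this

theorem mem_range_j2 (a : 𝟙_ (Over (Spec (CommRingCat.of k))) ⟶ N) (p : (A ⊗ N).left) :
    p ∈ Set.range (j2 A a).left ↔ (snd A N).left p = a.left (IsLocalRing.closedPoint k) := by
  constructor
  · rintro ⟨x, rfl⟩
    have h := (isPullback_left_j2 (A := A) a).w
    have h2 : (snd A N).left ((j2 A a).left x) = a.left ((toUnit A).left x) := by
      rw [← Scheme.Hom.comp_apply, ← Scheme.Hom.comp_apply, h]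
    rw [h2]
    exact congrArg a.left (Subsingleton.elim (α := PrimeSpectrum k) _ _)
  · intro h
    obtain ⟨z, hz1, hz2⟩ := Scheme.Pullback.exists_preimage_pullback (f := (snd A N).left) (g := a.left) p
      (IsLocalRing.closedPoint k) h
    refine ⟨(isPullback_left_j2 (A := A) a).isoPullback.inv z, ?_⟩
    rw [← Scheme.Hom.comp_apply, (isPullback_left_j2 (A := A) a).isoPullback_inv_fst, hz1]

theorem disjoint_j2 {a b : 𝟙_ (Over (Spec (CommRingCat.of k))) ⟶ N} (h : a ≠ b) :
    Disjoint (Set.range (j2 A a).left) (Set.range (j2 A b).left) := by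
  rw [Set.disjoint_left]
  intro p h1 h2
  rw [mem_range_j2] at h1 h2
  exact h (Pts.ext_pt (h1.symm.trans h2))

theorem exists_mem_j2 (p : (A ⊗ N).left) : ∃ a : 𝟙_ (Over (Spec (CommRingCat.of k))) ⟶ N,
    p ∈ Set.range (j2 A a).left := by
  obtain ⟨a, ha⟩ := exists_pt ((snd A N).left p)
  exact ⟨a, (mem_range_j2 a p).2 ha.symm⟩

/-- A module on `A × N` pushed forward to `A`: the product of its restrictions to the components. -/
theorem nonempty_push_fst {J : Type u} [Finite J] (e : J ≃ (𝟙_ (Over (Spec (CommRingCat.of k))) ⟶ N))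
    (M : (A ⊗ N).left.Modules) :
    Nonempty ((pushforward (fst A N).left).obj M ≅ ∏ᶜ fun i : J => (Scheme.Modules.pullback (j2 A (e i)).left).obj M) := by
  have h1 : IsIso (DisjDecomp.toProd (fun i => (j2 A (e i)).left) M) := by
    refine DisjDecomp.isIso_toProd _ (fun i j hij => disjoint_j2 fun h => hij (e.injective h)) (fun p => ?_) M
    obtain ⟨a, ha⟩ := exists_mem_j2 p
    exact ⟨e.symm a, by rw [e.apply_symm_apply]; exact ha⟩
  have h2 : ∀ i, (j2 A (e i)).left ≫ (fst A N).left = 𝟙 A.left := fun i => by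
    rw [← Over.comp_left, j2_fst, Over.id_left]
  refine ⟨(pushforward (fst A N).left).mapIso (asIso (DisjDecomp.toProd (fun i => (j2 A (e i)).left) M)) ≪≫
    PreservesProduct.iso (pushforward (fst A N).left) _ ≪≫ Pi.mapIso fun i => ?_⟩
  exact (pushforwardComp (j2 A (e i)).left (fst A N).left).app _ ≪≫ (pushforwardCongr (h2 i)).app _ ≪≫
    (pushforwardId _).app _ ≪≫ (restrictFunctorIsoPullback (j2 A (e i)).left).app M

end Decomp

section Main

variable [IsAlgClosed k] [CharZero k] {A B : Over (Spec (CommRingCat.of k))} [GrpObj A] [GrpObj B]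
  [LocallyOfFiniteType A.hom]

/-- **`π^* π_* E` is the sum of the translates of `E` by the kernel.** -/
theorem nonempty_iso (π : A ⟶ B) [IsMonHom π] [IsFinite π.left] (E : A.left.Modules) [E.IsQuasicoherent] :
    Nonempty ((Scheme.Modules.pullback π.left).obj ((pushforward π.left).obj E) ≅
      ∐ fun a : {a : 𝟙_ (Over (Spec (CommRingCat.of k))) ⟶ A // a ≫ π = 1} =>
        (Scheme.Modules.pullback (𝟙 A * (toUnit A ≫ a.1)).left).obj E) := by
  obtain ⟨N, hN, i, hi, hker⟩ := Groth.Agent.Grpsch.KerMul.exists_kernel π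
  have hker' : IsPullback i.left (toUnit N).left π.left (η[B] : 𝟙_ (Over (Spec (CommRingCat.of k))) ⟶ B).left :=
    hker.map (Over.forget _)
  have hNf0 : IsFinite (toUnit N).left := MorphismProperty.of_isPullback (P := @IsFinite) hker' inferInstance
  have hNf : IsFinite N.hom := by
    have h : (toUnit N).left = N.hom := (Category.comp_id _).symm.trans (Over.w (toUnit N))
    rwa [h] at hNf0
  have hNs : Smooth N.hom := by
    let _ : GrpObj (Over.mk N.hom) := hN
    exact Groth.Agent.Localalg.CartierSch.smooth_of_grpObj_of_charZero N.hom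
  have hNe : Etale N.hom := K776.SmoothLqf.etale_of_smooth_of_locallyQuasiFinite N.hom
  let e : {a : 𝟙_ (Over (Spec (CommRingCat.of k))) ⟶ A // a ≫ π = 1} ≃ (𝟙_ (Over (Spec (CommRingCat.of k))) ⟶ N) :=
    { toFun := fun a => hker.lift a.1 (toUnit _) (by rw [a.2]; rfl)
      invFun := fun b => ⟨b ≫ i, by
        rw [Category.assoc, hker.w, ← Category.assoc, toUnit_unique (b ≫ toUnit N) (𝟙 _), Category.id_comp]
        exact (by simp [Hom.one_def] : η[B] = (1 : 𝟙_ _ ⟶ B))⟩
      left_inv := fun a => Subtype.ext (hker.lift_fst _ _ _)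
      right_inv := fun b => hker.hom_ext (hker.lift_fst _ _ _) (toUnit_unique _ _) }
  have hfin : Finite (𝟙_ (Over (Spec (CommRingCat.of k))) ⟶ N) := finite_pts
  have hfin' : Finite {a : 𝟙_ (Over (Spec (CommRingCat.of k))) ⟶ A // a ≫ π = 1} := Finite.of_equiv _ e.symm
  let q : A ⊗ N ⟶ A := fst A N * (snd A N ≫ i)
  have hsq : IsPullback (fst A N) q π π := K450.KerTors.isPullback π i hker
  have hsq' : IsPullback q.left (fst A N).left π.left π.left := (hsq.flip).map (Over.forget _)
  obtain ⟨e1⟩ := Groth.Agent.CohqA.AffineBaseChange.nonempty_iso hsq' E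
  obtain ⟨e2⟩ := nonempty_push_fst e ((Scheme.Modules.pullback q.left).obj E)
  have hbi : HasFiniteBiproducts A.left.Modules := Abelian.hasFiniteBiproducts
  refine ⟨e1 ≪≫ e2 ≪≫ (biproduct.isoProduct _).symm ≪≫ biproduct.mapIso (fun a => ?_) ≪≫ biproduct.isoCoproduct _⟩
  have h3 : (j2 A (e a)).left ≫ q.left = (𝟙 A * (toUnit A ≫ a.1)).left := by
    rw [← Over.comp_left]
    congr 1
    have h4 : e a ≫ i = a.1 := hker.lift_fst _ _ _
    rw [MonObj.comp_mul, j2_fst, ← Category.assoc, j2_snd, Category.assoc, h4]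
  exact (pullbackComp (j2 A (e a)).left q.left).app E ≪≫ (pullbackCongr h3).app E

end Main

end K512.IsogSplit
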