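import Mathlib.Algebra.Module.ZMod
import Mathlib.LinearAlgebra.Dimension.Free
import Mathlib.LinearAlgebra.FreeModule.StrongRankCondition
import Mathlib.LinearAlgebra.Dimension.Finite
import Mathlib.LinearAlgebra.FiniteDimensional.Basic
import Mathlib.LinearAlgebra.FreeModule.PID
import Mathlib.Data.ZMod.QuotientGroup
import Mathlib.FieldTheory.Finiteness
import Mathlib.FieldTheory.Finite.Basic

/-!
# Torsion of a `p`-divisible abelian group whose `p`-torsion is finite

If multiplication by a prime `p` is surjective on an abelian group `G` and `G[p]` has at most `p^g`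
elements, then there is `i ≤ g` with `G[p^m] ≅ (ℤ/p^m)^i` for all `m`.
-/

set_option autoImplicit false

namespace K512.PTors

open Finset

variable {G : Type*} [AddCommGroup G] (p : ℕ)

/-- The `N`-torsion of an abelian group. -/
def tor (G : Type*) [AddCommGroup G] (N : ℕ) : AddSubgroup G := (nsmulAddMonoidHom (α := G) N).ker

theorem mem_tor {N : ℕ} {x : G} : x ∈ tor G N ↔ N • x = 0 := Iff.rfl

variable {ι : Type*} [Fintype ι]

/-- The homomorphism `ℤ^ι → G` given by a family of elements. -/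
def comb (y : ι → G) : (ι → ℤ) →+ G where
  toFun a := ∑ j, a j • y j
  map_zero' := by simp
  map_add' a b := by simp [add_smul, Finset.sum_add_distrib]

theorem comb_apply (y : ι → G) (a : ι → ℤ) : comb y a = ∑ j, a j • y j := rfl

theorem comb_smul (y : ι → G) (N : ℕ) (a : ι → ℤ) : comb y (fun j => (N : ℤ) * a j) = N • comb y a := by
  simp only [comb_apply, mul_smul, Finset.smul_sum, natCast_zsmul]

theorem nsmul_comb {y z : ι → G} {N : ℕ} (h : ∀ j, N • y j = z j) (a : ι → ℤ) :
    N • comb y a = comb z a := by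
  simp only [comb_apply, Finset.smul_sum]
  refine Finset.sum_congr rfl fun j _ => ?_
  rw [smul_comm, h]

omit [Fintype ι] in
/-- The tower of lifts of a family of `p`-torsion elements: `p • lift (m+1) = lift m`. -/
theorem exists_tower (hdiv : ∀ x : G, ∃ y : G, p • y = x) (x : ι → G) :
    ∃ y : ℕ → ι → G, y 0 = x ∧ ∀ m j, p • y (m + 1) j = y m j := by
  choose f hf using hdiv
  exact ⟨fun m => Nat.rec x (fun _ z j => f (z j)) m, rfl, fun m j => hf _⟩

theorem key (x : ι → G)
    (hker : ∀ a : ι → ℤ, comb x a = 0 ↔ ∃ b : ι → ℤ, a = fun j => (p : ℤ) * b j)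
    (hran : ∀ z : G, p • z = 0 ↔ ∃ a, comb x a = z) (y : ℕ → ι → G) (h0 : y 0 = x)
    (hy : ∀ m j, p • y (m + 1) j = y m j) (m : ℕ) :
    (∀ a : ι → ℤ, comb (y m) a = 0 ↔ ∃ b : ι → ℤ, a = fun j => ((p ^ (m + 1) : ℕ) : ℤ) * b j) ∧
      ∀ z : G, (p ^ (m + 1)) • z = 0 ↔ ∃ a, comb (y m) a = z := by
  induction m with
  | zero =>
    rw [h0]
    simpa using ⟨hker, hran⟩
  | succ m ih =>
    have hym : ∀ j, (p ^ (m + 1)) • y (m + 1) j = x j := by
      have : ∀ n j, (p ^ n) • y n j = x j := by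
        intro n
        induction n with
        | zero => intro j; rw [h0]; simp
        | succ n ihn => intro j; rw [pow_succ, mul_smul, hy, ihn]
      exact this (m + 1)
    have hp : ∀ a, p • comb (y (m + 1)) a = comb (y m) a := fun a => nsmul_comb (hy m) a
    have hpm : ∀ a, (p ^ (m + 1)) • comb (y (m + 1)) a = comb x a := fun a => nsmul_comb hym a
    refine ⟨fun a => ⟨fun h => ?_, ?_⟩, fun z => ⟨fun h => ?_, ?_⟩⟩
    · have h1 : comb (y m) a = 0 := by rw [← hp, h, smul_zero]
      obtain ⟨b, rfl⟩ := (ih.1 a).1 h1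
      rw [comb_smul, hpm] at h
      obtain ⟨c, rfl⟩ := (hker b).1 h
      refine ⟨c, ?_⟩
      funext j
      push_cast
      ring
    · rintro ⟨b, rfl⟩
      rw [comb_smul, pow_succ', mul_smul, hpm]
      have h2 : comb x (fun j => (p : ℤ) * b j) = 0 := (hker _).2 ⟨b, rfl⟩
      rw [← comb_smul, h2]
    · have h1 : (p ^ (m + 1)) • (p • z) = 0 := by rw [← mul_smul, ← pow_succ, h]
      obtain ⟨a, ha⟩ := (ih.2 _).1 h1
      have h2 : p • (z - comb (y (m + 1)) a) = 0 := by rw [smul_sub, hp, ha, sub_self]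
      obtain ⟨b, hb⟩ := (hran _).1 h2
      refine ⟨a + fun j => ((p ^ (m + 1) : ℕ) : ℤ) * b j, ?_⟩
      rw [map_add, comb_smul, hpm, hb]
      abel
    · rintro ⟨a, rfl⟩
      rw [pow_succ', mul_smul, hpm]
      exact (hran _).2 ⟨a, rfl⟩

/-- The reduction map `ℤ^ι → (ℤ/N)^ι`. -/
def red (ι : Type*) (N : ℕ) : (ι → ℤ) →+ (ι → ZMod N) where
  toFun a j := (a j : ZMod N)
  map_zero' := by funext j; simp
  map_add' a b := by funext j; simp

theorem red_surjective (ι : Type*) (N : ℕ) : Function.Surjective (red ι N) := by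
  intro b
  choose a ha using fun j => ZMod.intCast_surjective (b j)
  exact ⟨a, funext ha⟩

theorem red_eq_zero {ι : Type*} {N : ℕ} {a : ι → ℤ} :
    red ι N a = 0 ↔ ∃ b : ι → ℤ, a = fun j => (N : ℤ) * b j := by
  constructor
  · intro h
    have h1 : ∀ j, ∃ b : ℤ, a j = N * b := by
      intro j
      have h2 : (a j : ZMod N) = 0 := congrFun h j
      exact (ZMod.intCast_zmod_eq_zero_iff_dvd _ _).1 h2
    choose b hb using h1
    exact ⟨b, funext hb⟩
  · rintro ⟨b, rfl⟩
    funext j
    change (((N : ℤ) * b j : ℤ) : ZMod N) = 0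
    simp

/-- Two surjections from the same group with the same kernel have isomorphic targets. -/
noncomputable def equivOfKer {A B C : Type*} [AddCommGroup A] [AddCommGroup B] [AddCommGroup C]
    (f : A →+ B) (g : A →+ C) (hf : Function.Surjective f) (hg : Function.Surjective g)
    (h : ∀ a, f a = 0 ↔ g a = 0) : B ≃+ C :=
  (QuotientAddGroup.quotientKerEquivOfSurjective f hf).symm.trans
    ((QuotientAddGroup.quotientAddEquivOfEq (by ext a; exact h a)).trans
      (QuotientAddGroup.quotientKerEquivOfSurjective g hg))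

theorem exists_basis [Fact p.Prime] (V : Type*) [AddCommGroup V] [Module (ZMod p) V] [Finite V] :
    ∃ i : ℕ, Nonempty (Module.Basis (Fin i) (ZMod p) V) ∧ Nat.card V = p ^ i := by
  have h1 : Module.Finite (ZMod p) V := Module.Finite.of_finite
  refine ⟨Module.finrank (ZMod p) V, ⟨Module.finBasis (ZMod p) V⟩, ?_⟩
  rw [Module.natCard_eq_pow_finrank (K := ZMod p) (V := V)]
  simp

/-- Generators of `G[p]`, in terms of integer combinations. -/
theorem exists_gens [Fact p.Prime] (V : Type*) [AddCommGroup V] [Module (ZMod p) V] [Finite V]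
    (e : V →+ G) (he : Function.Injective e) (hr : ∀ z : G, p • z = 0 ↔ ∃ v, e v = z) :
    ∃ (i : ℕ) (x : Fin i → G), Nat.card V = p ^ i ∧
      (∀ a : Fin i → ℤ, comb x a = 0 ↔ ∃ c : Fin i → ℤ, a = fun j => (p : ℤ) * c j) ∧
      ∀ z : G, p • z = 0 ↔ ∃ a, comb x a = z := by
  obtain ⟨i, ⟨b⟩, hcard⟩ := exists_basis p V
  have hcomb : ∀ a : Fin i → ℤ, comb (fun j => e (b j)) a = e (∑ j, (a j : ZMod p) • b j) := by
    intro a
    rw [comb_apply, map_sum]
    refine Finset.sum_congr rfl fun j _ => ?_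
    rw [Int.cast_smul_eq_zsmul (ZMod p), map_zsmul]
  refine ⟨i, fun j => e (b j), hcard, fun a => ?_, fun z => ?_⟩
  · rw [hcomb, ← red_eq_zero, map_eq_zero_iff e he]
    constructor
    · intro h
      funext j
      exact (Fintype.linearIndependent_iff.1 b.linearIndependent) (fun j => (a j : ZMod p)) h j
    · intro h
      refine Finset.sum_eq_zero fun j _ => ?_
      have : (a j : ZMod p) = 0 := congrFun h j
      rw [this, zero_smul]
  · constructor
    · intro hz
      obtain ⟨v, rfl⟩ := (hr z).1 hz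
      choose a ha using fun j => ZMod.intCast_surjective (b.repr v j)
      refine ⟨a, ?_⟩
      rw [hcomb]
      have : (∑ j, (a j : ZMod p) • b j) = v := by
        simp_rw [ha]
        exact b.sum_repr v
      rw [this]
    · rintro ⟨a, rfl⟩
      rw [hcomb]
      exact (hr _).2 ⟨_, rfl⟩

theorem exists_gens' [Fact p.Prime] (hfs : {x : G | p • x = 0}.Finite) :
    ∃ (i : ℕ) (x : Fin i → G), Set.ncard {x : G | p • x = 0} = p ^ i ∧
      (∀ a : Fin i → ℤ, comb x a = 0 ↔ ∃ c : Fin i → ℤ, a = fun j => (p : ℤ) * c j) ∧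
      ∀ z : G, p • z = 0 ↔ ∃ a, comb x a = z := by
  have hH : ∀ x : tor G p, p • x = 0 := fun x => Subtype.ext x.2
  have hf : Finite (tor G p) := hfs
  obtain ⟨i, x, h1, h2, h3⟩ := @exists_gens G _ p _ (tor G p) _ (AddCommGroup.zmodModule hH) hf
    (tor G p).subtype Subtype.val_injective
    (fun z => ⟨fun h => ⟨⟨z, h⟩, rfl⟩, by rintro ⟨v, rfl⟩; exact v.2⟩)
  exact ⟨i, x, h1, h2, h3⟩

/-- If `G` is `p`-divisible and `G[p]` has at most `p^g` elements then there is `i ≤ g` with
`G[p^m] ≅ (ℤ/p^m)^i` for all `m`. -/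
theorem exists_rank [Fact p.Prime] (g : ℕ) (hdiv : ∀ x : G, ∃ y : G, p • y = x)
    (hfin : Set.encard {x : G | p • x = 0} ≤ (p ^ g : ℕ)) :
    ∃ i : ℕ, i ≤ g ∧ ∀ m : ℕ, Nonempty (tor G (p ^ m) ≃+ (Fin i → ZMod (p ^ m))) := by
  have hfs : {x : G | p • x = 0}.Finite := Set.finite_of_encard_le_coe hfin
  obtain ⟨i, x, hcard, hker, hran⟩ := exists_gens' p hfs
  have hle : i ≤ g := by
    rw [← Set.Finite.cast_ncard_eq hfs, hcard] at hfin
    have h3 : p ^ i ≤ p ^ g := by exact_mod_cast hfin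
    exact (Nat.pow_le_pow_iff_right (Fact.out : p.Prime).one_lt).1 h3
  refine ⟨i, hle, ?_⟩
  obtain ⟨y, hy0, hy⟩ := exists_tower p hdiv x
  intro m
  rcases m with _ | m
  · have h1 : ∀ u : tor G (p ^ 0), u = 0 := by
      rintro ⟨u, hu⟩
      apply Subtype.ext
      change (p ^ 0) • u = 0 at hu
      simpa using hu
    have h2 : Subsingleton (Fin i → ZMod (p ^ 0)) := by
      rw [pow_zero]
      infer_instance
    exact ⟨{ toFun := fun _ => 0, invFun := fun _ => 0, left_inv := fun _ => (h1 _).symm,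
             right_inv := fun _ => Subsingleton.elim _ _, map_add' := fun _ _ => Subsingleton.elim _ _ }⟩
  · obtain ⟨k1, k2⟩ := key p x hker hran y hy0 hy m
    let f : (Fin i → ℤ) →+ tor G (p ^ (m + 1)) :=
      (comb (y m)).codRestrict _ fun a => (k2 _).2 ⟨a, rfl⟩
    have hf : Function.Surjective f := by
      rintro ⟨z, hz⟩
      obtain ⟨a, ha⟩ := (k2 z).1 hz
      exact ⟨a, Subtype.ext ha⟩
    refine ⟨equivOfKer f (red (Fin i) (p ^ (m + 1))) hf (red_surjective _ _) fun a => ?_⟩
    rw [red_eq_zero, ← k1]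
    exact Subtype.ext_iff

end K512.PTors
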