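import Groth.Agent.AbVar.K512.FMIso
import Groth.Agent.AbVar.K512.Phi
import Groth.Agent.AbVar.K513.Lam
import Groth.Agent.AbDual.K732.AV

/-!
# Fibres of the Poincaré class

* `exists_lam` : for `c ∈ Pic A` there is `λ : A ⟶ At` with `P|_{A × λ(a)} = t_a^* c / c` for every point `a`
  (points with values in the base);
* `ltHomology` : the cohomology sheaves of `G ⊗^L M`, `M` invertible.
-/

set_option autoImplicit false
universe u

open CategoryTheory CategoryTheory.Limits MonoidalCategory CartesianMonoidalCategory AlgebraicGeometry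
open scoped MonObj
open Groth.Agent Groth.Agent.Grpsch.PicGrp Groth.Agent.Grpsch.Cube Groth.Agent.Fga.RigGrp K512.Phi
open K732.Cov K732.PicZero K732.RigSheaf K732.Dual K732.CubeSec K732.Transp K732.Prim K513.Lam

namespace K512.PoincFib

attribute [local instance] HasDerivedCategory.standard

section LT

open Groth.Agent.PerfB.TensExact Groth.Agent.Dcoh.MapDer

variable {X : Scheme.{u}}

/-- `H^i(G ⊗^L M) ≅ H^i(G) ⊗ M` for `M` invertible. -/
theorem ltHomology {M : X.Modules} (hM : PicF.IsInvertible M) [DCoh.HasLTensorMod M] (G : DCoh.D X) (i : ℤ) :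
    Nonempty (DCoh.HD ((DCoh.LTensorMod M).obj G) i ≅ CohB1.tensorMod (DCoh.HD G i) M) := by
  haveI := FMIso.pfl hM
  exact ⟨(DerivedCategory.homologyFunctor _ i).mapIso ((LTensorModIso M).app G) ≪≫
    homologyMapDerApp (DCoh.tensorRightMod M) i G⟩

end LT

section Fib

variable {k : Type u} [Field k] {A At : Over (Spec (CommRingCat.of k))} [GrpObj A] [GrpObj At]
  [IsProper A.hom] [Smooth A.hom] [GeometricallyConnected A.hom]
  {φ : ∀ T : Over (Spec (CommRingCat.of k)), PicF.Cl (PicF.XT A.hom T) → (T ⟶ At)}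

/-- The homomorphism `φ_c : A ⟶ A^t` on points: `P|_{A × φ_c(a)} = t_a^* c / c`. -/
theorem exists_lam (hφ : AbDual.IsDualAV Scheme.fppfPrecoverage A At φ)
    {ξ : Pic (PicF.XT A.hom At)} (h1 : ξ ∈ pz A.hom At) (h2 : ξ ∈ rg A At) (h3 : cm φ ξ = 𝟙 At)
    (c : Pic A.left) : ∃ lm : A ⟶ At, ∀ a : 𝟙_ (Over (Spec (CommRingCat.of k))) ⟶ A,
      pull (lift (𝟙 A) (toUnit A ≫ a ≫ lm)).left ξ = pl (tr a) c * c⁻¹ := by
  have hI : GeometricallyIntegral A.hom := K732.AV.geomInt A
  set Λ : Pic (PicF.XT A.hom A) := lam (fst A A) (snd A A) c with hΛ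
  have ev_lam : ∀ {W : Over (Spec (CommRingCat.of k))} (a b : W ⟶ A), ev a b Λ = lam a b c := by
    intro W a b
    have := lam_comp (lift a b) (fst A A) (snd A A) c
    rw [lift_fst, lift_snd] at this
    exact this
  have z1 : Λ ∈ pz A.hom A := by
    have h := isPicZeroCl_lam c A (𝟙 A)
    rw [Category.comp_id] at h
    exact isPicZeroCl_iff.1 h
  have z2 : Λ ∈ rg A A := by
    rw [mem_rg_iff, ev_lam, lam_one_left]
  have e := eq_pull_poinc hφ (bijective_XTproj A.hom) h1 h2 h3 z1 z2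
  refine ⟨cm φ Λ, fun a => ?_⟩
  have e1 := ev_XTmap (𝟙 A) (toUnit A ≫ a) (cm φ Λ) ξ
  rw [← e, ev_lam, lam, Category.assoc] at e1
  have e2 : pl (toUnit A ≫ a) c = 1 := Sga7.H496.SeeSaw.pull_toUnit a c
  rw [e2, inv_one, mul_one, pl_id] at e1
  exact e1.symm

end Fib

end K512.PoincFib
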