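import Groth.Agent.AbVar.K512.PoincId
import Groth.Agent.AbVar.K512.AV

/-!
# Translates of the Poincaré module over a field
-/

set_option autoImplicit false
universe u

open CategoryTheory CategoryTheory.Limits MonoidalCategory CartesianMonoidalCategory MonObj GrpObj
  AlgebraicGeometry

namespace K512.PoincMod

open Groth.Agent Groth.Agent.Grpsch.PicGrp

section Cat

variable {C : Type*} [Category C] [CartesianMonoidalCategory C] {A B : C} [GrpObj B]

theorem comp_tr {T : C} (a : T ⟶ B) (x : 𝟙_ C ⟶ B) :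
    a ≫ (𝟙 B * (toUnit B ≫ x)) = a * (toUnit T ≫ x) := by
  rw [MonObj.comp_mul, Category.comp_id, ← Category.assoc, toUnit_unique (a ≫ toUnit B) (toUnit T)]

theorem tr_tr (x y : 𝟙_ C ⟶ B) : (𝟙 B * (toUnit B ≫ x)) ≫ (𝟙 B * (toUnit B ≫ y)) =
    𝟙 B * (toUnit B ≫ (x * y)) := by
  rw [comp_tr, MonObj.comp_mul, _root_.mul_assoc]

theorem isIso_tr (x : 𝟙_ C ⟶ B) : IsIso (𝟙 B * (toUnit B ≫ x)) := by
  refine ⟨𝟙 B * (toUnit B ≫ x⁻¹), ?_, ?_⟩
  · rw [tr_tr, mul_inv_cancel, MonObj.comp_one, _root_.mul_one]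
  · rw [tr_tr, inv_mul_cancel, MonObj.comp_one, _root_.mul_one]

theorem isIso_right (x : 𝟙_ C ⟶ B) :
    IsIso (lift (fst A B) (snd A B ≫ (𝟙 B * (toUnit B ≫ x)))) := by
  refine ⟨lift (fst A B) (snd A B ≫ (𝟙 B * (toUnit B ≫ x⁻¹))), ?_, ?_⟩ <;>
  · rw [comp_lift, lift_fst, lift_snd_assoc, Category.assoc, tr_tr]
    simp

theorem isIso_left (x : 𝟙_ C ⟶ B) :
    IsIso (lift (fst B A ≫ (𝟙 B * (toUnit B ≫ x))) (snd B A)) := by
  refine ⟨lift (fst B A ≫ (𝟙 B * (toUnit B ≫ x⁻¹))) (snd B A), ?_, ?_⟩ <;>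
  · rw [comp_lift, lift_snd, lift_fst_assoc, Category.assoc, tr_tr]
    simp

end Cat

variable {k : Type u} [Field k] {A At : Over (Spec (CommRingCat.of k))} [GrpObj A] [GrpObj At]
  [IsProper A.hom] [GeometricallyIntegral A.hom]
  {φ : ∀ T : Over (Spec (CommRingCat.of k)), PicF.Cl (PicF.XT A.hom T) → (T ⟶ At)}
  (hφ : AbDual.IsDualAV Scheme.fppfPrecoverage A At φ)
  {P : (pullback A.hom At.hom).Modules} (hP : PicF.IsInvertible P)
  (hPξ : AbDual.IsPoincareCl A At φ (PicF.cl P))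

include hφ hP hPξ

theorem nonempty_right (x : 𝟙_ (Over (Spec (CommRingCat.of k))) ⟶ At) :
    Nonempty ((Scheme.Modules.pullback
        (lift (fst A At) (snd A At ≫ (𝟙 At * (toUnit At ≫ x)))).left).obj P ≅
      CohB1.tensorMod P ((Scheme.Modules.pullback (pullback.fst A.hom At.hom)).obj
        ((Scheme.Modules.pullback (lift (𝟙 A) (toUnit A ≫ x)).left).obj P))) := by
  obtain ⟨ζ, h1, h2, h3, h4⟩ := K732.AV.exists_of_isPoincareCl hPξ
  have e : ζ = mk P hP := Fga.RigGrp.toCl_injective h4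
  subst e
  have h := PoincId.pull_right hφ h1 h2 h3 x
  exact (mk_eq_iff _ _).1 h

/-- `T^* (P ⊗ q^* N_{-x}) ≅ P`. -/
theorem nonempty_left [LocallyOfFiniteType At.hom] [GeometricallyConnected At.hom]
    (x : 𝟙_ (Over (Spec (CommRingCat.of k))) ⟶ A) :
    Nonempty ((Scheme.Modules.pullback
        (lift (fst A At ≫ (𝟙 A * (toUnit A ≫ x))) (snd A At)).left).obj
      (CohB1.tensorMod P ((Scheme.Modules.pullback (pullback.snd A.hom At.hom)).obj
        ((Scheme.Modules.pullback (lift (toUnit At ≫ x⁻¹) (𝟙 At)).left).obj P))) ≅ P) := by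
  obtain ⟨ζ, h1, h2, h3, h4⟩ := K732.AV.exists_of_isPoincareCl hPξ
  have e : ζ = mk P hP := Fga.RigGrp.toCl_injective h4
  subst e
  have h := PoincId.pull_left hφ h1 h2 h3 x⁻¹
  have h5 := congrArg (pull (lift (fst A At ≫ (𝟙 A * (toUnit A ≫ x))) (snd A At)).left) h
  rw [← pull_comp, ← Over.comp_left] at h5
  have e1 : lift (fst A At ≫ (𝟙 A * (toUnit A ≫ x))) (snd A At) ≫
      lift (fst A At ≫ (𝟙 A * (toUnit A ≫ x⁻¹))) (snd A At) = 𝟙 _ := by
    rw [comp_lift, lift_snd, lift_fst_assoc, Category.assoc, tr_tr]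
    simp
  rw [e1, Over.id_left] at h5
  exact (mk_eq_iff _ _).1 (h5.symm.trans (pull_id _))

end K512.PoincMod
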