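import Groth.Agent.AbDual.K732.AV

/-!
# `(1 × [n])^* P = P^n = ([n] × 1)^* P` for the Poincaré class
-/

set_option autoImplicit false
universe u

open CategoryTheory CategoryTheory.Limits MonoidalCategory CartesianMonoidalCategory MonObj GrpObj
  AlgebraicGeometry

namespace K512.PoincPow

open Groth.Agent.Grpsch.PicGrp Groth.Agent.Fga.RigGrp K732.Cov K732.PicZero K732.RigSheaf K732.Dual
open K732.CubeSec K732.Transp K732.Prim

variable {S : Scheme.{u}} [IsLocallyNoetherian S] {A At : Over S} [GrpObj A] [GrpObj At]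
  [IsProper A.hom] [Flat A.hom] [LocallyOfFinitePresentation A.hom] [GeometricallyIntegral A.hom]
  [LocallyOfFiniteType At.hom] [GeometricallyConnected At.hom]
  {φ : ∀ T : Over S, PicF.Cl (PicF.XT A.hom T) → (T ⟶ At)}
  (hD : AbDual.IsDualAV Scheme.fppfPrecoverage A At φ)

include hD

omit [IsLocallyNoetherian S] [LocallyOfFiniteType At.hom] [GeometricallyConnected At.hom]
  [IsProper A.hom] [Flat A.hom] [LocallyOfFinitePresentation A.hom] [GeometricallyIntegral A.hom] in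
theorem cm_pow {T : Over S} {c : Pic (PicF.XT A.hom T)} (hc : c ∈ pz A.hom T) (n : ℕ) :
    cm φ (c ^ n) = cm φ c ^ n := by
  induction n with
  | zero => rw [pow_zero, pow_zero, cm_one hD]
  | succ n ih => rw [pow_succ, pow_succ, cm_mul hD (pow_mem hc n) hc, ih]

/-- `(1 × [n])^* P = P ^ n`. -/
theorem pull_XTmap_pow {ξ : Pic (PicF.XT A.hom At)} (h1 : ξ ∈ pz A.hom At) (h2 : ξ ∈ rg A At)
    (h3 : cm φ ξ = 𝟙 At) (n : ℕ) : pull (PicF.XTmap A.hom (𝟙 At ^ n)) ξ = ξ ^ n := by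
  refine cm_inj hD (bijective_XTproj A.hom) (pull_XTmap_mem _ h1) (pow_mem h1 n) (pull_mem _ h2)
    (pow_mem h2 n) ?_
  rw [cm_pull hD _ h1, h3, Category.comp_id, cm_pow hD h1, h3]

/-- `(1 × [-1])^* P = P⁻¹`. -/
theorem pull_XTmap_inv {ξ : Pic (PicF.XT A.hom At)} (h1 : ξ ∈ pz A.hom At) (h2 : ξ ∈ rg A At)
    (h3 : cm φ ξ = 𝟙 At) : pull (PicF.XTmap A.hom (𝟙 At)⁻¹) ξ = ξ⁻¹ := by
  refine cm_inj hD (bijective_XTproj A.hom) (pull_XTmap_mem _ h1) (inv_mem h1) (pull_mem _ h2)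
    (inv_mem h2) ?_
  rw [cm_pull hD _ h1, h3, Category.comp_id, cm_inv hD h1, h3]

/-- `([n] × 1)^* c = c ^ n` for rigidified `Pic⁰` classes. -/
theorem pull_bcMap_pow {T : Over S} {c : Pic (PicF.XT A.hom T)} (hc : c ∈ pz A.hom T)
    (hc' : c ∈ rg A T) (n : ℕ) : pull (AbDual.bcMap (𝟙 A ^ n) T) c = c ^ n := by
  induction n with
  | zero => rw [pow_zero, pow_zero, bcMap_one hc']
  | succ n ih => rw [pow_succ, pow_succ, bcMap_mul hD hc hc', ih, bcMap_id, pull_id]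

theorem pull_bcMap_inv {T : Over S} {c : Pic (PicF.XT A.hom T)} (hc : c ∈ pz A.hom T)
    (hc' : c ∈ rg A T) : pull (AbDual.bcMap (𝟙 A)⁻¹ T) c = c⁻¹ := by
  rw [bcMap_inv hD hc hc', bcMap_id, pull_id]

end K512.PoincPow
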