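import Groth.Prelude.Def_AlgGrp
import Groth.Prelude.Def_CartDual
import Groth.Agent.Books.AffBridge
import Mathlib.AlgebraicGeometry.Morphisms.FlatRank

/-!
# The rank of an isogeny is the dimension of the coordinate ring of its kernel
-/

set_option autoImplicit false
universe u
open CategoryTheory CategoryTheory.Limits MonoidalCategory CartesianMonoidalCategory MonObj GrpObj AlgebraicGeometry
open Groth.Agent.Books.AffBridge

namespace Groth.Agent.K512.RankKer

/-- The `k`-dimension of the coordinate ring of the kernel of `f` is the rank of `f`. -/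
theorem finrank_eq (k : Type u) [Field k] {A B N : Over (Spec (CommRingCat.of k))} [GrpObj B] (f : A ⟶ B)
    [IsFinite f.left] [Flat f.left] (i : N ⟶ A) (hN : AlgGrp.IsKernel i f)
    (R : Type u) [CommRing R] [Algebra k R] (e : N ≅ SpecOver k R) (d : ℕ)
    (hd : ∀ y : ↥B.left, Scheme.Hom.finrank f.left y = d) : Module.finrank k R = d := by
  have h1 : IsPullback i.left (toUnit N).left f.left (η[B] : 𝟙_ (Over (Spec (CommRingCat.of k))) ⟶ B).left :=
    IsPullback.map (Over.forget _) hN
  have h5 : N.hom = (toUnit N).left := by
    have h6 := Over.w (toUnit N)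
    exact h6.symm.trans (Category.comp_id _)
  have h2 : IsFinite N.hom := by
    rw [h5]
    exact MorphismProperty.of_isPullback h1 (inferInstance : IsFinite f.left)
  have h3 : Flat N.hom := by
    rw [h5]
    exact MorphismProperty.of_isPullback h1 (inferInstance : Flat f.left)
  have h6 : e.hom.left ≫ (SpecOver k R).hom = N.hom := Over.w e.hom
  have h7 : e.inv.left ≫ N.hom = (SpecOver k R).hom := Over.w e.inv
  have h8 : IsFinite (SpecOver k R).hom := by
    rw [← h7]
    infer_instance
  have h9 : Module.Finite k R := by
    have h10 : IsFinite (Spec.map (CommRingCat.ofHom (algebraMap k R))) := h8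
    rw [IsFinite.SpecMap_iff] at h10
    exact RingHom.finite_algebraMap.mp h10
  let x : ↥(𝟙_ (Over (Spec (CommRingCat.of k)))).left := IsLocalRing.closedPoint k
  have h11 : Scheme.Hom.finrank (toUnit N).left x = d :=
    (Scheme.Hom.finrank_of_isPullback _ _ _ _ h1 x).trans (hd _)
  have h12 : Scheme.Hom.finrank N.hom x = Scheme.Hom.finrank (SpecOver k R).hom x := by
    have h13 : Flat (SpecOver k R).hom := by
      rw [← h7]
      infer_instance
    rw [← h6, Scheme.Hom.finrank_comp_left_of_isIso]
  have h14 : Scheme.Hom.finrank (SpecOver k R).hom x = Module.finrank k R := by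
    have h15 := Scheme.Hom.finrank_SpecMap_algebraMap k R x
    rw [Module.rankAtStalk_eq_finrank_of_free] at h15
    exact h15
  rw [← h14, ← h12, ← h11]
  congr 1

end Groth.Agent.K512.RankKer
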