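import Groth.Agent.AbDual.K732.Isog
import Groth.Agent.AbDual.K732.AV
import Groth.Agent.Surf.K464.Base
import Groth.Agent.S7859
import Groth.Agent.S2329
import Groth.Agent.S0485

/-!
# The transpose of an isogeny is finite flat of the same rank

`f : A ⟶ B` finite flat surjective of rank `d`.  The classes `(f × 1)^* P_B` and `(1 × f^t)^* P_A` on `A × B^t` agree,
hence `d · χ(P_B) = d' · χ(P_A)` with `d'` the rank of `f^t`; and `χ(P) = ± 1`.
-/

set_option autoImplicit false
universe u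

open CategoryTheory CategoryTheory.Limits MonoidalCategory CartesianMonoidalCategory MonObj GrpObj
  AlgebraicGeometry

namespace K512.RankTransp

open Groth.Agent.Grpsch.PicGrp Groth.Agent.Fga.RigGrp K732.Cov K732.PicZero K732.RigSheaf K732.Dual
open K732.CubeSec K732.Transp K732.Prim

section pull

variable {S : Scheme.{u}} {A At B Bt : Over S} [GrpObj A] [GrpObj B]
  [GrpObj At] [GrpObj Bt]
  {φA : ∀ T : Over S, PicF.Cl (PicF.XT A.hom T) → (T ⟶ At)}
  {φB : ∀ T : Over S, PicF.Cl (PicF.XT B.hom T) → (T ⟶ Bt)}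

/-- `(f × 1)^* P_B = (1 × f^t)^* P_A`. -/
theorem pull_bcMap_eq (hA : AbDual.IsDualAV Scheme.fppfPrecoverage A At φA)
    (hF : ∀ T : Over S, Function.Bijective (PicF.XTproj A.hom T).appTop)
    {ξA : Pic (PicF.XT A.hom At)} (a1 : ξA ∈ pz A.hom At) (a2 : ξA ∈ rg A At) (a3 : cm φA ξA = 𝟙 At)
    {ξB : Pic (PicF.XT B.hom Bt)} (b1 : ξB ∈ pz B.hom Bt) (b2 : ξB ∈ rg B Bt) (b3 : cm φB ξB = 𝟙 Bt)
    {f : A ⟶ B} [IsMonHom f] {ft : Bt ⟶ At} (hft : AbDual.IsTranspose f φA φB ft) :
    pull (AbDual.bcMap f Bt) ξB = pull (PicF.XTmap A.hom ft) ξA := by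
  have e1 : pull (AbDual.bcMap f Bt) ξB ∈ rg A Bt := by
    rw [mem_rg_iff, ev_bcMap]
    have : (1 : Bt ⟶ A) ≫ f = 1 := by simp
    rw [this]
    exact ev_one_of_mem b2 _
  have e2 := eq_pull_poinc hA hF a1 a2 a3 (pull_bcMap_mem f b1) e1
  rw [hft.cm b1, b3, Category.id_comp] at e2
  exact e2

end pull

section rank

variable {S : Scheme.{u}} {A B At Bt : Over S}

/-- `bcMap f T` is the base change of `f`. -/
theorem isPullback_bcMap (f : A ⟶ B) (T : Over S) :
    IsPullback (pullback.fst A.hom T.hom) (AbDual.bcMap f T) f.left (pullback.fst B.hom T.hom) := by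
  have e1 : AbDual.bcMap f T ≫ pullback.snd B.hom T.hom = pullback.snd A.hom T.hom := bcMap_XTproj f T
  have e2 : f.left ≫ B.hom = A.hom := Over.w f
  refine IsPullback.of_bot (v₂₁ := pullback.snd B.hom T.hom) (v₂₂ := B.hom) (h₃₁ := T.hom) ?_
    (bcMap_fst f T).symm (IsPullback.of_hasPullback B.hom T.hom)
  rw [e1, e2]
  exact IsPullback.of_hasPullback A.hom T.hom

/-- `XTmap A.hom g` is the base change of `g`. -/
theorem isPullback_XTmap (A : Over S) {T T' : Over S} (g : T' ⟶ T) :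
    IsPullback (pullback.snd A.hom T'.hom) (PicF.XTmap A.hom g) g.left (pullback.snd A.hom T.hom) := by
  have e1 : PicF.XTmap A.hom g ≫ pullback.fst A.hom T.hom = pullback.fst A.hom T'.hom := XTmap_fst _ _
  have e2 : g.left ≫ T.hom = T'.hom := Over.w g
  refine IsPullback.of_bot (v₂₁ := pullback.fst A.hom T.hom) (v₂₂ := T.hom) (h₃₁ := A.hom) ?_
    (XTmap_XTproj A.hom g).symm (IsPullback.of_hasPullback A.hom T.hom).flip
  rw [e1, e2]
  exact (IsPullback.of_hasPullback A.hom T'.hom).flip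

/-- A connected target, a finite flat morphism: constant rank. -/
theorem exists_rank {X Y : Scheme.{u}} (f : X ⟶ Y) [IsFinite f] [Flat f] [LocallyOfFinitePresentation f]
    [PreconnectedSpace Y] [Nonempty Y] : ∃ d : ℕ, ∀ y : Y, f.finrank y = d := by
  obtain ⟨y0⟩ := (inferInstance : Nonempty Y)
  exact ⟨f.finrank y0, fun y => (Scheme.Hom.isLocallyConstant_finrank f).apply_eq_of_preconnectedSpace y y0⟩

end rank

section field

variable (k : Type u) [Field k] {A At B Bt : Over (Spec (CommRingCat.of k))}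
  [GrpObj A] [IsProper A.hom] [GeometricallyIntegral A.hom]
  [GrpObj At] [IsProper At.hom] [GeometricallyIntegral At.hom]
  [GrpObj B] [IsProper B.hom] [GeometricallyIntegral B.hom]
  [GrpObj Bt] [IsProper Bt.hom] [GeometricallyIntegral Bt.hom]

/-- The Euler characteristic of a module on `A × T`. -/
noncomputable abbrev eul (A T : Over (Spec (CommRingCat.of k))) (P : (PicF.XT A.hom T).Modules) : ℤ :=
  @Curv2.euler k _ (PicF.XT A.hom T) ⟨(A ⊗ T).hom⟩ P

theorem euler_bcMap (f : A ⟶ B) [IsFinite f.left] [Flat f.left] (d : ℕ)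
    (hd : ∀ y : ↥B.left, Scheme.Hom.finrank f.left y = d) (P : (PicF.XT B.hom Bt).Modules) (hP : Coh.IsCoh P) :
    eul k A Bt ((Scheme.Modules.pullback (AbDual.bcMap f Bt)).obj P) = (d : ℤ) * eul k B Bt P := by
  have h := isPullback_bcMap f Bt
  have i1 : IsFinite (AbDual.bcMap f Bt) := MorphismProperty.of_isPullback h inferInstance
  have i2 : Flat (AbDual.bcMap f Bt) := MorphismProperty.of_isPullback h inferInstance
  have e : AbDual.bcMap f Bt ≫ (B ⊗ Bt).hom = (A ⊗ Bt).hom := by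
    change AbDual.bcMap f Bt ≫ pullback.fst B.hom Bt.hom ≫ B.hom = pullback.fst A.hom Bt.hom ≫ A.hom
    rw [bcMap_fst_assoc, Over.w f]
  let F : A ⊗ Bt ⟶ B ⊗ Bt := Over.homMk (AbDual.bcMap f Bt) e
  have j1 : IsFinite F.left := i1
  have j2 : Flat F.left := i2
  exact Groth.Agent.S7859.result k (A ⊗ Bt) (B ⊗ Bt) F d
    (fun y => (Scheme.Hom.finrank_of_isPullback _ _ _ _ h _).trans (hd _)) P hP

theorem euler_XTmap (g : Bt ⟶ At) [IsFinite g.left] [Flat g.left] (d : ℕ)
    (hd : ∀ y : ↥At.left, Scheme.Hom.finrank g.left y = d) (P : (PicF.XT A.hom At).Modules) (hP : Coh.IsCoh P) :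
    eul k A Bt ((Scheme.Modules.pullback (PicF.XTmap A.hom g)).obj P) = (d : ℤ) * eul k A At P := by
  have h := isPullback_XTmap A g
  have i1 : IsFinite (PicF.XTmap A.hom g) := MorphismProperty.of_isPullback h inferInstance
  have i2 : Flat (PicF.XTmap A.hom g) := MorphismProperty.of_isPullback h inferInstance
  have e : PicF.XTmap A.hom g ≫ (A ⊗ At).hom = (A ⊗ Bt).hom := by
    change PicF.XTmap A.hom g ≫ pullback.fst A.hom At.hom ≫ A.hom = pullback.fst A.hom Bt.hom ≫ A.hom
    rw [XTmap_fst_assoc]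
  let F : A ⊗ Bt ⟶ A ⊗ At := Over.homMk (PicF.XTmap A.hom g) e
  have j1 : IsFinite F.left := i1
  have j2 : Flat F.left := i2
  exact Groth.Agent.S7859.result k (A ⊗ Bt) (A ⊗ At) F d
    (fun y => (Scheme.Hom.finrank_of_isPullback _ _ _ _ h _).trans (hd _)) P hP

omit [GrpObj A] [IsProper A.hom] [GeometricallyIntegral A.hom] [GrpObj At] [IsProper At.hom]
  [GeometricallyIntegral At.hom] in
/-- Cohomology one-dimensional and concentrated in one degree: `χ = ± 1`. -/
theorem natAbs_eul (P : (PicF.XT A.hom At).Modules) (g : ℕ) (h1 : ∀ i : ℕ, i ≠ g → Subsingleton (Coh.HH (PicF.XT A.hom At) P i))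
    (h2 : @Module.finrank k (Coh.HH (PicF.XT A.hom At) P g) _ _
        (@Coh.moduleOver k _ (PicF.XT A.hom At) ⟨(A ⊗ At).hom⟩ P g) = 1) : (eul k A At P).natAbs = 1 := by
  have e : eul k A At P = (-1) ^ g := by
    unfold eul Curv2.euler
    rw [finsum_eq_single _ g fun i hi => ?_, h2, Nat.cast_one, _root_.mul_one]
    have := h1 i hi
    have h3 : @Module.finrank k (Coh.HH (PicF.XT A.hom At) P i) _ _
        (@Coh.moduleOver k _ (PicF.XT A.hom At) ⟨(A ⊗ At).hom⟩ P i) = 0 := by
      letI := @Coh.moduleOver k _ (PicF.XT A.hom At) ⟨(A ⊗ At).hom⟩ P i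
      exact Module.finrank_zero_of_subsingleton
    rw [h3, Nat.cast_zero, mul_zero]
  rw [e, Int.natAbs_pow]
  simp

end field

section main

variable (k : Type u) [Field k] {A At B Bt : Over (Spec (CommRingCat.of k))}
  [GrpObj A] [IsProper A.hom] [Smooth A.hom] [GeometricallyConnected A.hom]
  [GrpObj At] [IsProper At.hom] [Smooth At.hom] [GeometricallyConnected At.hom]
  [GrpObj B] [IsProper B.hom] [Smooth B.hom] [GeometricallyConnected B.hom]
  [GrpObj Bt] [IsProper Bt.hom] [Smooth Bt.hom] [GeometricallyConnected Bt.hom]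
  {φA : ∀ T : Over (Spec (CommRingCat.of k)), PicF.Cl (PicF.XT A.hom T) → (T ⟶ At)}
  {φB : ∀ T : Over (Spec (CommRingCat.of k)), PicF.Cl (PicF.XT B.hom T) → (T ⟶ Bt)}

/-- The transpose of an isogeny is finite, flat, surjective of constant rank. -/
theorem exists_rank_transp (hφA : AbDual.IsDualAV Scheme.fppfPrecoverage A At φA)
    (hφB : AbDual.IsDualAV Scheme.fppfPrecoverage B Bt φB)
    (f : A ⟶ B) [IsMonHom f] [IsFinite f.left] [Surjective f.left]
    {ft : Bt ⟶ At} (hft : AbDual.IsTranspose f φA φB ft) :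
    IsFinite ft.left ∧ Flat ft.left ∧ Surjective ft.left ∧
      ∃ d' : ℕ, ∀ x : ↥At.left, Scheme.Hom.finrank ft.left x = d' := by
  have gA : GeometricallyIntegral A.hom := K732.AV.geomInt A
  have gB : GeometricallyIntegral B.hom := K732.AV.geomInt B
  have gAt : GeometricallyIntegral At.hom := K732.AV.geomInt At
  have gBt : GeometricallyIntegral Bt.hom := K732.AV.geomInt Bt
  have hN : IsNoetherianRing (CommRingCat.of k) := inferInstanceAs (IsNoetherianRing k)
  have hf : SGA7.IsIsogenyOver f := ⟨inferInstance, fun N i hi => by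
    have h3 : IsPullback i.left (toUnit N).left f.left (η[B] : 𝟙_ (Over (Spec (CommRingCat.of k))) ⟶ B).left :=
      IsPullback.map (Over.forget _) hi
    exact MorphismProperty.of_isPullback (P := @IsFinite) h3 (inferInstance : IsFinite f.left)⟩
  obtain ⟨h1, h2⟩ := K732.Isog.isFinite_surjective_transp k hφA hφB f hf hft
  have hm : IsMonHom ft := isMonHom_of_isTranspose hφA hφB (bijective_XTproj B.hom) hft
  have hIt : IsIntegral At.left := GeometricallyIntegral.isIntegral_of_subsingleton At.hom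
  have hNt : IsLocallyNoetherian At.left := LocallyOfFiniteType.isLocallyNoetherian At.hom
  have h3 : Flat ft.left := Groth.Agent.Grpsch.MulFinFlat.flat_of_surjective k ft
  exact ⟨h1, h3, h2, exists_rank ft.left⟩

/-- The ranks agree if both Poincaré modules have Euler characteristic `± 1`. -/
theorem rank_eq (hφA : AbDual.IsDualAV Scheme.fppfPrecoverage A At φA)
    (hφB : AbDual.IsDualAV Scheme.fppfPrecoverage B Bt φB)
    (hχA : ∀ (P : (PicF.XT A.hom At).Modules), PicF.IsInvertible P →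
      AbDual.IsPoincareCl A At φA (PicF.cl P) → (eul k A At P).natAbs = 1)
    (hχB : ∀ (P : (PicF.XT B.hom Bt).Modules), PicF.IsInvertible P →
      AbDual.IsPoincareCl B Bt φB (PicF.cl P) → (eul k B Bt P).natAbs = 1)
    (f : A ⟶ B) [IsMonHom f] [IsFinite f.left] [Flat f.left] [Surjective f.left]
    (d : ℕ) (hd : ∀ y : ↥B.left, Scheme.Hom.finrank f.left y = d)
    {ft : Bt ⟶ At} (hft : AbDual.IsTranspose f φA φB ft) :
    IsFinite ft.left ∧ Flat ft.left ∧ Surjective ft.left ∧
      ∀ x : ↥At.left, Scheme.Hom.finrank ft.left x = d := by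
  have gA : GeometricallyIntegral A.hom := K732.AV.geomInt A
  have gB : GeometricallyIntegral B.hom := K732.AV.geomInt B
  have gAt : GeometricallyIntegral At.hom := K732.AV.geomInt At
  have gBt : GeometricallyIntegral Bt.hom := K732.AV.geomInt Bt
  have hN : IsNoetherianRing (CommRingCat.of k) := inferInstanceAs (IsNoetherianRing k)
  obtain ⟨h1, h2, h3, d', hd'⟩ := exists_rank_transp k hφA hφB f hft
  refine ⟨h1, h2, h3, fun x => ?_⟩
  rw [hd' x]
  obtain ⟨ξA, a1, a2, a3⟩ := exists_poinc hφA (bijective_XTproj A.hom)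
  obtain ⟨ξB, b1, b2, b3⟩ := exists_poinc hφB (bijective_XTproj B.hom)
  have e := pull_bcMap_eq hφA (bijective_XTproj A.hom) a1 a2 a3 b1 b2 b3 hft
  obtain ⟨PA, hPA, rfl⟩ := exists_mk ξA
  obtain ⟨PB, hPB, rfl⟩ := exists_mk ξB
  rw [pull_mk, pull_mk, mk_eq_iff] at e
  obtain ⟨e⟩ := e
  have cA : AbDual.IsPoincareCl A At φA (PicF.cl PA) := by
    refine ⟨isPicZeroCl_iff.2 a1, a3, ?_⟩
    have := (mem_Rg _ _ _).1 a2
    exact (isTrivialCl_toCl_iff _).2 this
  have cB : AbDual.IsPoincareCl B Bt φB (PicF.cl PB) := by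
    refine ⟨isPicZeroCl_iff.2 b1, b3, ?_⟩
    have := (mem_Rg _ _ _).1 b2
    exact (isTrivialCl_toCl_iff _).2 this
  have kA := euler_XTmap k (A := A) ft d' hd' PA (Groth.Agent.S2329.isCoh_of_isInvertible hPA)
  have kB := euler_bcMap k (Bt := Bt) f d hd PB (Groth.Agent.S2329.isCoh_of_isInvertible hPB)
  have hAA := hχA PA hPA cA
  have hBB := hχB PB hPB cB
  have key : (d : ℤ) * eul k B Bt PB = (d' : ℤ) * eul k A At PA := by
    rw [← kA, ← kB]
    exact @K464.Base.euler_congr k _ (PicF.XT A.hom Bt) ⟨(A ⊗ Bt).hom⟩ _ _ e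
  have := congrArg Int.natAbs key
  rw [Int.natAbs_mul, Int.natAbs_mul, hAA, hBB] at this
  simpa using this.symm

end main

end K512.RankTransp
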