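import Groth.Prelude.Def_ClSub2
import Groth.Agent.Fdesc.LocGen
import Groth.Agent.CohqA.H1Lift

/-!
# Morphisms `O_X ⟶ e_* O_{Spec k}`

For `e : Z ⟶ X` with `Γ(Z, O_Z)` a field, every non-zero morphism `O_X ⟶ e_* O_Z` is `unitToPush e` followed by an
automorphism of `e_* O_Z`.
-/

set_option autoImplicit false
universe u
open CategoryTheory CategoryTheory.Limits AlgebraicGeometry Opposite

namespace Groth.Agent.K512.SkyHom

open Groth.Agent.Fdesc.LocGen

theorem epi_unitToPush {X C : Scheme.{u}} (κ : C ⟶ X) [IsClosedImmersion κ] :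
    Epi (ClSub.unitToPush κ) := by
  have h := Groth.Agent.CohqA.H1Lift.epi_toAb_of_locSurj (ClSub.unitToPush κ)
    (Groth.Agent.CohqA.H1Lift.locSurj_of_affine _ fun U => κ.app_surjective U.1 U.2)
  have h1 : (SheafOfModules.toSheaf X.ringCatSheaf).ReflectsEpimorphisms :=
    Functor.reflectsEpimorphisms_of_faithful _
  exact (SheafOfModules.toSheaf X.ringCatSheaf).epi_of_epi_map h

variable {X Z : Scheme.{u}} (e : Z ⟶ X)

/-- Every morphism `O_X ⟶ e_* O_Z` is `unitToPush e` followed by `e_*` of a multiplication. -/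
theorem eq_unitToPush_comp
    (f : Coh.structureModule X ⟶ (Scheme.Modules.pushforward e).obj (Coh.structureModule Z)) :
    ∃ s : Γ(Z, ⊤), f = ClSub.unitToPush e ≫
      (Scheme.Modules.pushforward e).map (homOf (M := Coh.structureModule Z) (ofFun s)) := by
  let s : Γ(Z, ⊤) := sec f ⊤
  refine ⟨s, hom_ext_sec ?_⟩
  rw [sec_comp]
  have h1 : sec (ClSub.unitToPush e) ⊤ = (one ⊤ : Γ(Coh.structureModule Z, ⊤)) :=
    map_one (e.app ⊤).hom
  rw [h1]
  have h2 : (homOf (M := Coh.structureModule Z) (ofFun s)).app ⊤ (one ⊤) = ofFun s := by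
    change sec (homOf (M := Coh.structureModule Z) (ofFun s)) ⊤ = _
    rw [sec_homOf, res_refl]
  exact h2.symm

theorem exists_iso (hZ : IsField Γ(Z, ⊤))
    (f : Coh.structureModule X ⟶ (Scheme.Modules.pushforward e).obj (Coh.structureModule Z)) (hf : f ≠ 0) :
    ∃ w : (Scheme.Modules.pushforward e).obj (Coh.structureModule Z) ≅
      (Scheme.Modules.pushforward e).obj (Coh.structureModule Z), f = ClSub.unitToPush e ≫ w.hom := by
  obtain ⟨s, hs⟩ := eq_unitToPush_comp e f
  have h0 : s ≠ 0 := by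
    rintro rfl
    apply hf
    rw [hs]
    have h1 : homOf (M := Coh.structureModule Z) (ofFun (0 : Γ(Z, ⊤))) = 0 :=
      hom_ext_sec (by rw [sec_homOf, map_zero, map_zero]; rfl)
    rw [h1, Functor.map_zero, comp_zero]
  have h1 : IsUnit s := by
    obtain ⟨t, ht⟩ := hZ.mul_inv_cancel h0
    exact IsUnit.of_mul_eq_one t ht
  have h2 : IsIso (homOf (M := Coh.structureModule Z) (ofFun s)) := by
    rw [isIso_iff_isGen, sec_homOf, res_refl, ofFun_eq_smul]
    exact (isGen_one ⊤).unit_smul h1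
  exact ⟨(Scheme.Modules.pushforward e).mapIso (@asIso _ _ _ _ _ h2), hs⟩

theorem isField_spec (k : Type u) [Field k] : IsField Γ(Spec (CommRingCat.of k), ⊤) :=
  (Scheme.ΓSpecIso (CommRingCat.of k)).commRingCatIsoToRingEquiv.toMulEquiv.isField (Field.toIsField k)

end Groth.Agent.K512.SkyHom
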