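import Groth.Agent.AbVar.K512.PhiSurj
import Groth.Agent.AbVar.K512.DetTors
import Groth.Agent.Variety.K432.CurveNorm
import Groth.Agent.AbVar.K510.ExistsCurve
import Groth.Agent.Models.K381.DedFlat
import Groth.Agent.Ega1.SuppTensorMod
import Groth.Agent.ASBun.K791.Tens
import Groth.Agent.AlgGrp.K407.PicProd
import Groth.Agent.FormalA.Support
import Groth.Agent.Grpsch.MulFinFlat

/-!
# Coherent modules invariant under twisting by `Pic⁰` have finite support

* `exists_pull_snd` : seesaw on `X × B`, `B` smooth over an algebraically closed field;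
* `finite_pts` : `ν : D ⟶ A`, `D` proper integral, all the classes `ν^*(t_a^* L ⊗ L⁻¹)` trivial, `L` nondegenerate:
  `ν` has finitely many values;
* `finite_support` : `F ⊗ (t_a^* L ⊗ L⁻¹) ≅ F` for every `a ∈ A(k)`, `L` ample: `F` has finite support.
-/

set_option autoImplicit false
universe u

open CategoryTheory CategoryTheory.Limits MonoidalCategory CartesianMonoidalCategory AlgebraicGeometry
open scoped MonObj
open Groth.Agent Groth.Agent.Grpsch.PicGrp Groth.Agent.Grpsch.Cube K512.Phi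

namespace K512.TwistInv

section Seesaw

variable {k : Type u} [Field k] [IsAlgClosed k] {X B : Over (Spec (CommRingCat.of k))}

/-- The seesaw principle on `X × B` for the second projection. -/
theorem exists_pull_snd [IsProper X.hom] [GeometricallyIntegral X.hom] [Smooth B.hom] [IsProper B.hom]
    (M : Pic (X ⊗ B).left)
    (h : ∀ w : 𝟙_ (Over (Spec (CommRingCat.of k))) ⟶ B, pl (lift (𝟙 X) (toUnit X ≫ w)) M = 1) :
    ∃ d : Pic B.left, pl (snd X B) d = M := by
  have hno : IsLocallyNoetherian B.left := LocallyOfFiniteType.isLocallyNoetherian B.hom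
  have hsnd : (snd X B).left = pullback.snd X.hom B.hom := rfl
  have i1 : Flat (snd X B).left := by rw [hsnd]; infer_instance
  have i2 : IsProper (snd X B).left := by rw [hsnd]; infer_instance
  have i3 : LocallyOfFinitePresentation (snd X B).left := by rw [hsnd]; infer_instance
  have i4 : GeometricallyIntegral (snd X B).left := by rw [hsnd]; infer_instance
  refine Sga7.H496.SeeSaw.exists_pull (snd X B).left (Sga7.H496.SeeSaw.isNormalScheme_of_smooth B.hom) M _
    (dense_pts (A := B)) ?_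
  rintro x ⟨w, -, hx⟩
  have h1 := Sga7.H496.SeeSaw.fromSpecResidueField_section w.left B.hom (Over.w w) x hx
  have h2 : (snd X B).left.fiberι x =
      ((snd X B).left.fiberι x ≫ (fst X B).left) ≫ (lift (𝟙 X) (toUnit X ≫ w)).left := by
    apply pullback.hom_ext
    · rw [Category.assoc, ← Over.fst_left, ← Over.comp_left, lift_fst, Over.id_left, Category.comp_id]
    · rw [Category.assoc, ← Over.snd_left, ← Over.comp_left, lift_snd, Over.comp_left, Over.toUnit_left,
        Category.assoc]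
      have e1 : (snd X B).left.fiberι x ≫ (snd X B).left =
          ((snd X B).left.fiberι x ≫ (fst X B).left) ≫ X.hom ≫ w.left := by
        have e2 : (fst X B).left ≫ X.hom = (snd X B).left ≫ B.hom := (Over.w (fst X B)).trans (Over.w (snd X B)).symm
        rw [Category.assoc, reassoc_of% e2, Scheme.Hom.fiber_fac_assoc, Scheme.Hom.fiber_fac]
        conv_lhs => rw [h1]
        rw [Category.assoc]
      rw [e1, Category.assoc]
  have h3 := h w
  unfold pl at h3
  rw [h2, pull_comp, h3, map_one]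

end Seesaw

section Finite

variable {k : Type u} [Field k] [IsAlgClosed k] {A D : Over (Spec (CommRingCat.of k))} [GrpObj A]
  [IsProper A.hom] [GeometricallyIntegral A.hom] [IsProper D.hom] [GeometricallyIntegral D.hom]

/-- All the classes `ν^*(t_a^* c / c)` trivial, `c` nondegenerate: `ν` has finitely many values. -/
theorem finite_pts (ν : D ⟶ A) (c : Pic A.left)
    (hc : Set.Finite {x : 𝟙_ (Over (Spec (CommRingCat.of k))) ⟶ A | pl (tr x) c = c})
    (h : ∀ a : 𝟙_ (Over (Spec (CommRingCat.of k))) ⟶ A, pl ν (pl (tr a) c * c⁻¹) = 1) :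
    Set.Finite {a : 𝟙_ (Over (Spec (CommRingCat.of k))) ⟶ A | ∃ d, d ≫ ν = a} := by
  have hcomm : IsCommMonObj A := isCommMonObj_of_isProper_of_geometricallyIntegral A
  have hsm : Smooth A.hom := by
    let _ : GrpObj (Over.mk A.hom) := inferInstanceAs (GrpObj A)
    exact smooth_of_grpObj A.hom
  set M : Pic (D ⊗ A).left := pl ((fst D A ≫ ν) * snd D A) c * (pl (fst D A ≫ ν) c)⁻¹ with hM
  obtain ⟨N, hN⟩ := exists_pull_snd (X := D) (B := A) M (fun w => by
    have e1 : lift (𝟙 D) (toUnit D ≫ w) ≫ ((fst D A ≫ ν) * snd D A) = ν ≫ tr w := by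
      rw [MonObj.comp_mul, ← Category.assoc, lift_fst, lift_snd, Category.id_comp, comp_tr]
    have e2 : lift (𝟙 D) (toUnit D ≫ w) ≫ (fst D A ≫ ν) = ν := by
      rw [← Category.assoc, lift_fst, Category.id_comp]
    have e3 := h w
    rw [map_mul, map_inv, ← pl_comp] at e3
    rw [hM, map_mul, map_inv, ← pl_comp, ← pl_comp, e1, e2, e3])
  have key : ∀ d : 𝟙_ (Over (Spec (CommRingCat.of k))) ⟶ D, pl (tr (d ≫ ν)) c = N := fun d => by
    have e0 := congrArg (pl (lift (toUnit A ≫ d) (𝟙 A))) hN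
    have e1 : lift (toUnit A ≫ d) (𝟙 A) ≫ ((fst D A ≫ ν) * snd D A) = tr (d ≫ ν) := by
      rw [MonObj.comp_mul, ← Category.assoc, lift_fst, lift_snd, Category.assoc, mul_comm]
    have e2 : lift (toUnit A ≫ d) (𝟙 A) ≫ (fst D A ≫ ν) = toUnit A ≫ (d ≫ ν) := by
      rw [← Category.assoc, lift_fst, Category.assoc]
    have e3 : pl (toUnit A ≫ (d ≫ ν)) c = 1 := Sga7.H496.SeeSaw.pull_toUnit (d ≫ ν) c
    rw [← pl_comp, lift_snd, pl_id, hM, map_mul, map_inv, ← pl_comp, ← pl_comp, e1, e2, e3, inv_one,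
      mul_one] at e0
    exact e0.symm
  by_cases hne : Nonempty (𝟙_ (Over (Spec (CommRingCat.of k))) ⟶ D)
  · obtain ⟨d0⟩ := hne
    refine (hc.image (fun x => (d0 ≫ ν) * x)).subset ?_
    rintro a ⟨d, rfl⟩
    refine ⟨(d0 ≫ ν)⁻¹ * (d ≫ ν), ?_, mul_inv_cancel_left _ _⟩
    change pl (tr ((d0 ≫ ν)⁻¹ * (d ≫ ν))) c = c
    rw [pl_tr_mul, key d, ← key d0, ← pl_tr_mul, inv_mul_cancel, pl_tr_one]
  · refine Set.Finite.subset Set.finite_empty ?_
    rintro a ⟨d, -⟩
    exact (hne ⟨d⟩).elim

end Finite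

section Curve

variable {k : Type u} [Field k] [IsAlgClosed k]

/-- Curves in closed subsets with a non-closed point. -/
theorem exists_curve {X : Scheme.{u}} (q : X ⟶ Spec (CommRingCat.of k)) [IsProper q] (Z : Set X) (hZ : IsClosed Z)
    (z : X) (hz : z ∈ Z) (hz' : ¬ IsClosed ({z} : Set X)) :
    ∃ (D : Scheme.{u}) (ν : D ⟶ X), IsIntegral D ∧ IsFinite ν ∧
      (∀ x : D, IsPrincipalIdealRing (D.presheaf.stalk x)) ∧ (∀ d : D, ν d ∈ Z) ∧ (Set.range ν).Nontrivial := by
  have hN : IsLocallyNoetherian X := LocallyOfFiniteType.isLocallyNoetherian q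
  have hcX : CompactSpace X := QuasiCompact.compactSpace_of_compactSpace q
  have hNX : IsNoetherian X := { }
  let I := Scheme.IdealSheafData.vanishingIdeal (X := X) ⟨Z, hZ⟩
  have hr : Set.range I.subschemeι = Z := by
    rw [I.range_subschemeι, Scheme.IdealSheafData.coe_support_vanishingIdeal]
    rfl
  obtain ⟨C, i, hi, hC, hdim, hnt⟩ := K510.ExistsCurve.exists_curve k (I.subschemeι ≫ q) q I.subschemeι rfl z
    (by rw [hr]; exact hz) hz'
  obtain ⟨D, n, hn, hns, hD, hDdim, hreg, -⟩ := K432.CurveNorm.exists_regular_model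
    (i ≫ I.subschemeι ≫ q) hdim
  have hfin : IsFinite (n ≫ i ≫ I.subschemeι) := inferInstance
  refine ⟨D, n ≫ i ≫ I.subschemeι, hD, hfin, fun x => ?_, fun d => ?_, ?_⟩
  · exact K381.DedFlat.isPrincipalIdealRing_stalk hreg hDdim.le x
  · rw [← hr]
    exact ⟨i (n d), by simp⟩
  · have : Set.range (n ≫ i ≫ I.subschemeι) = Set.range (i ≫ I.subschemeι) := by
      ext x
      constructor
      · rintro ⟨d, rfl⟩
        exact ⟨n d, by simp⟩
      · rintro ⟨c, rfl⟩
        obtain ⟨d, rfl⟩ := hns.surj c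
        exact ⟨d, by simp⟩
    rw [this]
    exact hnt

end Curve

section Main

open TopologicalSpace

/-- A closed subset of a Noetherian sober space all of whose points are closed is finite. -/
theorem finite_of_isClosed_singleton {X : Type*} [TopologicalSpace X] [NoetherianSpace X] [QuasiSober X] {Z : Set X}
    (hZ : IsClosed Z) (h : ∀ z ∈ Z, IsClosed ({z} : Set X)) : Z.Finite := by
  obtain ⟨S, hS, hSc, hSi, e⟩ := NoetherianSpace.exists_finite_set_isClosed_irreducible hZ
  rw [e]
  refine Set.Finite.sUnion hS fun K hK => ?_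
  obtain ⟨x, hx⟩ := QuasiSober.sober (hSi K hK) (hSc K hK)
  have hx' : x ∈ K := hx.mem
  have hxZ : x ∈ Z := by
    rw [e]
    exact ⟨K, hK, hx'⟩
  have h1 : K = {x} := by
    rw [← (h x hxZ).closure_eq]
    exact hx.symm
  rw [h1]
  exact Set.finite_singleton x

variable {k : Type u} [Field k] [IsAlgClosed k] {A : Over (Spec (CommRingCat.of k))} [GrpObj A]
  [IsProper A.hom] [GeometricallyIntegral A.hom]

theorem pt_divisible (r : ℕ) (hr : 1 ≤ r) (a : 𝟙_ (Over (Spec (CommRingCat.of k))) ⟶ A) :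
    ∃ b : 𝟙_ (Over (Spec (CommRingCat.of k))) ⟶ A, b ^ r = a := by
  have h := (Grpsch.MulFinFlat.isFinite_flat_surjective k A r hr).2.2
  obtain ⟨b, hb⟩ := Pts.exists_lift (𝟙 A ^ r) a
  exact ⟨b, by rw [← hb, MonObj.comp_pow, Category.comp_id]⟩

omit [IsAlgClosed k] in
theorem phi_pow (c : Pic A.left) (a : 𝟙_ (Over (Spec (CommRingCat.of k))) ⟶ A) (r : ℕ) :
    pl (tr (a ^ r)) c * c⁻¹ = (pl (tr a) c * c⁻¹) ^ r := by
  induction r with
  | zero => rw [pow_zero, pow_zero, pl_tr_one, mul_inv_cancel]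
  | succ r ih =>
    rw [pow_succ, pow_succ, ← ih]
    have h := square c (a ^ r) a
    rw [eq_mul_inv_iff_mul_eq.symm] at h
    rw [h]
    exact mul_right_comm _ _ _ |>.trans (congrArg (· * c⁻¹) (mul_right_comm _ _ _)) |>.trans (mul_assoc _ _ _)

/-- **Coherent modules invariant under twisting by the classes `t_a^* L / L`, `L` ample, have finite support.** -/
theorem finite_support (F : A.left.Modules) (hF : Coh.IsCoh F) (L : A.left.Modules) (hL : CohB1.IsAmple L)
    (h : ∀ (a : 𝟙_ (Over (Spec (CommRingCat.of k))) ⟶ A) (N : A.left.Modules) (hN : PicF.IsInvertible N),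
      mk N hN = pl (tr a) (mk L hL.1) * (mk L hL.1)⁻¹ → Nonempty (CohB1.tensorMod F N ≅ F)) :
    (CohB1.support F).Finite := by
  have hNoeth : IsLocallyNoetherian A.left := LocallyOfFiniteType.isLocallyNoetherian A.hom
  have hcA : CompactSpace A.left := QuasiCompact.compactSpace_of_compactSpace A.hom
  have hNA : IsNoetherian A.left := { }
  have hcl : IsClosed (CohB1.support F) := FormalA.Support.isClosed_support F hF.2
  by_contra hinf
  obtain ⟨z, hz, hz'⟩ : ∃ z ∈ CohB1.support F, ¬ IsClosed ({z} : Set A.left) := by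
    by_contra hcon
    push Not at hcon
    exact hinf (finite_of_isClosed_singleton hcl hcon)
  obtain ⟨D, ν, hD, hν, hP, hDF, hnt⟩ := exists_curve A.hom (CohB1.support F) hcl z hz hz'
  let D' : Over (Spec (CommRingCat.of k)) := Over.mk (ν ≫ A.hom)
  let ν' : D' ⟶ A := Over.homMk ν
  have pD : IsProper D'.hom := inferInstanceAs (IsProper (ν ≫ A.hom))
  have gD : GeometricallyIntegral D'.hom :=
    K407.PicProd.geometricallyIntegral (k := k) (ν ≫ A.hom)
  have hDN : IsLocallyNoetherian D := LocallyOfFiniteType.isLocallyNoetherian (ν ≫ A.hom)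
  have hDc : CompactSpace D := QuasiCompact.compactSpace_of_compactSpace (ν ≫ A.hom)
  have hDNN : IsNoetherian D := { }
  have hM : Coh.IsCoh ((Scheme.Modules.pullback ν).obj F) := FormalA.PullbackQC.isCoh_pullback ν F hF
  have hη : genericPoint D ∈ CohB1.support ((Scheme.Modules.pullback ν).obj F) := by
    rw [Ega1.SuppTensorMod.mem_support_pullback ν F hF.2]
    exact hDF _
  obtain ⟨r, hr, hr'⟩ := DetTors.exists_pow_eq_one hP hM hη
  have key : ∀ a : 𝟙_ (Over (Spec (CommRingCat.of k))) ⟶ A,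
      pl ν' (pl (tr a) (mk L hL.1) * (mk L hL.1)⁻¹) = 1 := fun a => by
    obtain ⟨b, rfl⟩ := pt_divisible r hr a
    rw [phi_pow, map_pow]
    obtain ⟨N, hN, hN'⟩ := exists_mk (pl (tr b) (mk L hL.1) * (mk L hL.1)⁻¹)
    obtain ⟨e⟩ := h b N hN hN'.symm
    rw [hN']
    exact hr' _ (Fdesc.LocGen.isInvertible_pullback ν hN)
      ⟨(ASBun.K791.Tens.pullTens ν F N).symm ≪≫ (Scheme.Modules.pullback ν).mapIso e⟩
  have hfin := finite_pts ν' (mk L hL.1) (PhiSurj.finite_of_isAmple L hL) key
  set S : Set A.left := (fun a : 𝟙_ (Over (Spec (CommRingCat.of k))) ⟶ A => a.left (IsLocalRing.closedPoint k)) ''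
    {a | ∃ d, d ≫ ν' = a} with hS
  have hSf : S.Finite := hfin.image _
  have hSc : ∀ s ∈ S, IsClosed ({s} : Set A.left) := by
    rintro _ ⟨a, -, rfl⟩
    exact Pts.isClosed_pt a
  have hScl : IsClosed S := by
    rw [← Set.biUnion_of_singleton S]
    exact hSf.isClosed_biUnion hSc
  have hJ : JacobsonSpace D := LocallyOfFiniteType.jacobsonSpace (ν ≫ A.hom)
  have hall : ∀ d : D, ν d ∈ S := by
    have h1 : closedPoints D ⊆ ν ⁻¹' S := fun d hd => by
      obtain ⟨x, hx⟩ := Pts.exists_pt (A := D') d hd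
      refine ⟨x ≫ ν', ⟨x, rfl⟩, ?_⟩
      change ν (x.left _) = ν d
      rw [← hx]
    have h2 := JacobsonSpace.closure_inter_closedPoints_eq_closure (isClosed_univ (X := D)).isLocallyClosed
    rw [Set.univ_inter, closure_univ] at h2
    have h3 : closure (closedPoints D) ⊆ ν ⁻¹' S := closure_minimal h1 (hScl.preimage ν.continuous)
    rw [h2] at h3
    exact fun d => h3 trivial
  obtain ⟨x, ⟨d, rfl⟩, y, ⟨d', rfl⟩, hne⟩ := hnt
  have hconst : ∀ d : D, ν d = ν (genericPoint D) := fun d => by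
    have h1 : ν (genericPoint D) ⤳ ν d := (genericPoint_specializes d).map ν.continuous
    have h2 := h1.mem_closed (hSc _ (hall (genericPoint D))) rfl
    exact h2
  exact hne ((hconst d).trans (hconst d').symm)

end Main

end K512.TwistInv
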